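import Cfsg.Agent.TwentyTwo.Setting

/-!
# Permutation groups of degree 7 of order prime to 3 without involutions fixing one point
-/

set_option autoImplicit false

namespace CfsgLib.TwentyTwo

open MulAction

theorem card_eq_seven {Y : Type*} [Fintype Y] [DecidableEq Y] (hY : Fintype.card Y = 7)
    (H : Subgroup (Equiv.Perm Y)) (h3 : ¬ 3 ∣ Nat.card H) (h7 : 7 ∣ Nat.card H)
    (hinv : ∀ h ∈ H, h * h = 1 → (Finset.univ.filter fun y => h y = y).card ≠ 1) :
    Nat.card H = 7 := by
  classical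
  have : Fact (Nat.Prime 7) := ⟨by norm_num⟩
  have : Fact (Nat.Prime 2) := ⟨by norm_num⟩
  obtain ⟨S⟩ : Nonempty (Sylow 7 H) := Sylow.nonempty
  have hfac : Nat.card H ∣ 5040 := by
    refine (Subgroup.card_subgroup_dvd_card H).trans ?_
    rw [Nat.card_eq_fintype_card, Fintype.card_perm, hY]
    norm_num [Nat.factorial]
  have hS7 : Nat.card S = 7 := by
    obtain ⟨n, hn⟩ := IsPGroup.exists_card_eq S.2
    have h1 : 7 ^ n ∣ 5040 := hn ▸ (Subgroup.card_subgroup_dvd_card _).trans hfac
    rcases n with _ | _ | n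
    · exact absurd (Subgroup.eq_bot_of_card_eq _ (by simpa using hn)) (S.ne_bot_of_dvd_card h7)
    · simpa using hn
    · have : 49 ∣ 5040 := (Dvd.intro _ (by ring : 49 * 7 ^ n = 7 ^ (n + 1 + 1))).trans h1
      norm_num at this
  obtain ⟨s, hs⟩ := exists_prime_orderOf_dvd_card' 7 (dvd_of_eq hS7.symm)
  set σ : Equiv.Perm Y := ((s : H) : Equiv.Perm Y) with hσ
  have hσ7 : orderOf σ = 7 := by rw [hσ, Subgroup.orderOf_coe, Subgroup.orderOf_coe, hs]
  obtain ⟨n, hn⟩ := Equiv.Perm.cycleType_prime_order (σ := σ) (by rw [hσ7]; norm_num)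
  rw [hσ7] at hn
  have hsum := σ.sum_cycleType
  rw [hn, Multiset.sum_replicate, smul_eq_mul] at hsum
  have hle : σ.support.card ≤ 7 := hY ▸ Finset.card_le_univ _
  have hsupp : σ.support = Finset.univ := Finset.eq_univ_of_card _ (by rw [hY]; omega)
  have hcyc : σ.IsCycle :=
    Equiv.Perm.isCycle_of_prime_order (by rw [hσ7]; norm_num) (by rw [hσ7]; omega)
  obtain ⟨y₀⟩ : Nonempty Y := Fintype.card_pos_iff.mp (by omega)
  have hreach : ∀ y, ∃ i : ℤ, (σ ^ i) y₀ = y := fun y =>
    hcyc.sameCycle (Equiv.Perm.mem_support.mp (by rw [hsupp]; exact Finset.mem_univ _))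
      (Equiv.Perm.mem_support.mp (by rw [hsupp]; exact Finset.mem_univ _))
  have hfree : ∀ i : ℤ, ∀ y, (σ ^ i) y = y → σ ^ i = 1 := by
    intro i y h
    obtain ⟨j, rfl⟩ := hreach y
    ext z
    obtain ⟨k, rfl⟩ := hreach z
    rw [Equiv.Perm.one_apply, ← Equiv.Perm.mul_apply, ((Commute.refl σ).zpow_zpow i k).eq,
      Equiv.Perm.mul_apply]
    congr 1
    rw [← Equiv.Perm.mul_apply, ((Commute.refl σ).zpow_zpow i j).eq, Equiv.Perm.mul_apply] at h
    exact (σ ^ j).injective h
  have hcent : ∀ g : H, Commute g (s : H) → g ∈ (S : Subgroup H) := by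
    intro g hg
    have hg' : Commute (g : Equiv.Perm Y) σ := hg.map H.subtype
    obtain ⟨i, hi⟩ := hreach ((g : Equiv.Perm Y) y₀)
    have : (g : Equiv.Perm Y) = σ ^ i := by
      ext y
      obtain ⟨k, rfl⟩ := hreach y
      rw [← Equiv.Perm.mul_apply, (hg'.zpow_right k).eq, Equiv.Perm.mul_apply, ← hi,
        ← Equiv.Perm.mul_apply, ← Equiv.Perm.mul_apply, ((Commute.refl σ).zpow_zpow k i).eq]
    have : g = (s : H) ^ i := Subtype.ext (by rw [Subgroup.coe_zpow]; exact this)
    rw [this]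
    exact Subgroup.zpow_mem _ s.2 i
  have hcyc7 : IsCyclic S := isCyclic_of_prime_card hS7
  set N := Subgroup.normalizer ((S : Subgroup H) : Set H) with hN
  have hgen : ∀ z ∈ (S : Subgroup H), ∃ k : ℤ, (s : H) ^ k = z := by
    intro z hz
    have : Subgroup.zpowers (s : H) = S := Subgroup.eq_of_le_of_card_ge
      (Subgroup.zpowers_le.mpr s.2) (by rw [hS7, Nat.card_zpowers, Subgroup.orderOf_coe, hs])
    rw [← this] at hz
    exact Subgroup.mem_zpowers_iff.mp hz
  have hker : (S : Subgroup H).normalizerMonoidHom.ker = (S : Subgroup H).subgroupOf N := by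
    rw [Subgroup.normalizerMonoidHom_ker]
    refine congrArg (fun U : Subgroup H => U.subgroupOf N) (le_antisymm (fun g hg => ?_) fun g hg => ?_)
    · exact hcent g (Subgroup.mem_centralizer_iff.mp hg _ s.2).symm
    · rw [Subgroup.mem_centralizer_iff]
      intro z hz
      obtain ⟨i, rfl⟩ := hgen z hz
      obtain ⟨j, rfl⟩ := hgen g hg
      exact ((Commute.refl (s : H)).zpow_zpow i j).eq
  have hidx : ((S : Subgroup H).subgroupOf N).index ∣ 6 := by
    rw [← hker, Subgroup.index_ker]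
    refine (Subgroup.card_subgroup_dvd_card _).trans ?_
    rw [IsCyclic.card_mulAut, hS7, Nat.totient_prime (by norm_num)]
  have hidx1 : ((S : Subgroup H).subgroupOf N).index = 1 := by
    have hd : ((S : Subgroup H).subgroupOf N).index ∣ Nat.card N := Subgroup.index_dvd_card _
    have h3' : ¬ 3 ∣ ((S : Subgroup H).subgroupOf N).index := fun h =>
      h3 (h.trans (hd.trans (Subgroup.card_subgroup_dvd_card _)))
    by_contra hne
    have h2 : 2 ∣ Nat.card N := by
      refine dvd_trans ?_ hd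
      have := Nat.le_of_dvd (by norm_num) hidx
      interval_cases h : ((S : Subgroup H).subgroupOf N).index <;> omega
    obtain ⟨t, ht⟩ := exists_prime_orderOf_dvd_card' 2 h2
    have htH : orderOf (t : H) = 2 := by rw [Subgroup.orderOf_coe, ht]
    have htt : (t : H) * t = 1 := by rw [← pow_two, ← htH, pow_orderOf_eq_one]
    set τ : Equiv.Perm Y := ((t : H) : Equiv.Perm Y) with hτ
    have hττ : τ * τ = 1 := congrArg Subtype.val htt
    refine hinv τ (t : H).2 hττ ?_
    have hmod := card_fixed_modEq (G := Equiv.Perm Y) (p := 2) (x := τ)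
      (by rw [pow_two, hττ]) (Finset.univ : Finset Y) (by simp)
    rw [Finset.card_univ, hY] at hmod
    simp only [Equiv.Perm.smul_def] at hmod
    have hle1 : (Finset.univ.filter fun y => τ y = y).card ≤ 1 := by
      refine Finset.card_le_one.mpr fun u hu v hv => ?_
      rw [Finset.mem_filter] at hu hv
      obtain ⟨iu, rfl⟩ := hreach u
      obtain ⟨iv, rfl⟩ := hreach v
      -- conjugation by `t` on the Sylow subgroup
      set w : H := (s : H) ^ (iv - iu) with hw
      have hwS : w ∈ (S : Subgroup H) := Subgroup.zpow_mem _ s.2 _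
      have hcw : (t : H) * w * (t : H)⁻¹ ∈ (S : Subgroup H) :=
        (Subgroup.mem_normalizer_iff.mp t.2 w).mp hwS
      obtain ⟨k, hk⟩ := hgen _ (mul_mem (inv_mem hwS) hcw)
      have hwY : (w : Equiv.Perm Y) = σ ^ (iv - iu) := by rw [hw, Subgroup.coe_zpow, hσ]
      have hk' : σ ^ k = (σ ^ (iv - iu))⁻¹ * (τ * σ ^ (iv - iu) * τ⁻¹) := by
        have := congrArg Subtype.val hk
        rw [Subgroup.coe_mul, Subgroup.coe_mul, Subgroup.coe_mul, Subgroup.coe_inv, Subgroup.coe_inv,
          Subgroup.coe_zpow, hwY] at this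
        exact this
      have hτu : τ⁻¹ ((σ ^ iu) y₀) = (σ ^ iu) y₀ := by
        rw [Equiv.Perm.inv_eq_iff_eq]; exact hu.2.symm
      have hmove : (σ ^ (iv - iu)) ((σ ^ iu) y₀) = (σ ^ iv) y₀ := by
        rw [← Equiv.Perm.mul_apply, ← zpow_add, sub_add_cancel]
      have hone : σ ^ k = 1 := by
        refine hfree k ((σ ^ iu) y₀) ?_
        rw [hk', Equiv.Perm.mul_apply, Equiv.Perm.mul_apply, Equiv.Perm.mul_apply, hτu, hmove, hv.2,
          Equiv.Perm.inv_eq_iff_eq, hmove]
      have hcomm : Commute (t : H) w := by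
        have h1 : w⁻¹ * ((t : H) * w * (t : H)⁻¹) = 1 := by
          rw [← hk]
          exact Subtype.ext (by rw [Subgroup.coe_zpow]; exact hone)
        exact mul_inv_eq_iff_eq_mul.mp (inv_mul_eq_one.mp h1).symm
      by_cases hw1 : w = 1
      · rw [← hmove, ← hwY, hw1]; rfl
      exfalso
      have hgenw : Subgroup.zpowers w = (S : Subgroup H) := Subgroup.eq_of_le_of_card_ge
        (Subgroup.zpowers_le.mpr hwS) (by
          rw [hS7, Nat.card_zpowers]
          have hd : orderOf w ∣ 7 := hS7 ▸ Subgroup.orderOf_dvd_natCard _ hwS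
          rcases (Nat.dvd_prime (by norm_num)).mp hd with e | e
          · exact absurd (orderOf_eq_one_iff.mp e) hw1
          · omega)
      obtain ⟨i, hi⟩ := Subgroup.mem_zpowers_iff.mp
        (show (s : H) ∈ Subgroup.zpowers w by rw [hgenw]; exact s.2)
      have := Subgroup.orderOf_dvd_natCard _ (hcent _ (hi ▸ hcomm.zpow_right i))
      rw [htH, hS7] at this
      norm_num at this
    unfold Nat.ModEq at hmod
    omega
  have hNC : N ≤ Subgroup.centralizer ((S : Subgroup H) : Set H) :=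
    (Subgroup.relIndex_eq_one.mp hidx1).trans fun g hg => by
      rw [Subgroup.mem_centralizer_iff]
      intro z hz
      obtain ⟨i, rfl⟩ := hgen z hz
      obtain ⟨j, rfl⟩ := hgen g hg
      exact ((Commute.refl (s : H)).zpow_zpow i j).eq
  have hc := MonoidHom.ker_transferSylow_isComplement' S hNC
  set K := (MonoidHom.transferSylow S hNC).ker with hK
  have hKS : Nat.card K * 7 = Nat.card H := hS7 ▸ hc.card_mul
  have h7K : ¬ 7 ∣ Nat.card K := by
    intro h
    have : 7 * 7 ∣ 5040 := ((mul_dvd_mul_right h 7).trans (dvd_of_eq hKS)).trans hfac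
    norm_num at this
  have : MulAction.IsPretransitive H Y := ⟨fun a b => by
    obtain ⟨i, rfl⟩ := hreach a
    obtain ⟨j, rfl⟩ := hreach b
    refine ⟨(s : H) ^ (j - i), ?_⟩
    change (((s : H) ^ (j - i) : H) : Equiv.Perm Y) ((σ ^ i) y₀) = _
    rw [Subgroup.coe_zpow, ← Equiv.Perm.mul_apply, ← zpow_add, sub_add_cancel]⟩
  have hbot : K = ⊥ := by
    rw [eq_bot_iff]
    intro g hg
    rw [Subgroup.mem_bot]
    have hblock := (IsBlock.orbit_of_normal (N := K) (G := H) y₀)
    have hdiv := hblock.ncard_dvd_card ⟨y₀, mem_orbit_self y₀⟩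
    rw [Nat.card_eq_fintype_card (α := Y), hY] at hdiv
    have hdK : (orbit K y₀).ncard ∣ Nat.card K := by
      rw [← Nat.card_coe_set_eq, Nat.card_congr (orbitEquivQuotientStabilizer K y₀)]
      exact Subgroup.card_quotient_dvd_card _
    have h1 : (orbit K y₀).ncard = 1 := by
      rcases (Nat.dvd_prime (by norm_num)).mp hdiv with e | e
      · exact e
      · exact absurd (e ▸ hdK) h7K
    have hfix : ∀ k ∈ K, ((k : H) : Equiv.Perm Y) y₀ = y₀ := fun k hk => by
      obtain ⟨z, hz⟩ := Set.ncard_eq_one.mp h1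
      have e1 : ((k : H) : Equiv.Perm Y) y₀ ∈ orbit K y₀ := ⟨⟨k, hk⟩, rfl⟩
      have e2 : y₀ ∈ orbit K y₀ := mem_orbit_self y₀
      rw [hz, Set.mem_singleton_iff] at e1 e2
      rw [e1, ← e2]
    apply Subtype.ext
    ext y
    obtain ⟨i, rfl⟩ := hreach y
    have hc' : ((s : H) ^ i)⁻¹ * g * (s : H) ^ i ∈ K := by
      have := (MonoidHom.normal_ker (MonoidHom.transferSylow S hNC)).conj_mem g hg ((s : H) ^ i)⁻¹
      rwa [inv_inv] at this
    have := hfix _ hc'
    simp only [Subgroup.coe_mul, Subgroup.coe_inv, Subgroup.coe_zpow, Equiv.Perm.mul_apply] at this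
    rw [Equiv.Perm.inv_eq_iff_eq] at this
    rw [hσ]
    exact this
  rw [← hKS, hbot, Subgroup.card_bot, one_mul]

end CfsgLib.TwentyTwo
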