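import Cfsg.Agent.TwentyTwo.Orbits
import Cfsg.Agent.TwentyTwo.Seven

/-!
# No simple group has 22 Sylow 3-subgroups

Rank three is excluded by strongly regular graphs, rank two by a design count and by the
centraliser of a subgroup of order 3.
-/

set_option autoImplicit false
set_option linter.unusedSectionVars false

namespace CfsgLib.TwentyTwo

open MulAction
open scoped Pointwise

variable {T : Type*} [Group T] [Finite T] [IsSimpleGroup T]
  (h22 : Nat.card (Sylow 3 T) = 22)

include h22

theorem three_dvd_orbit {P Q : Sylow 3 T} (hQ : Q ≠ P) :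
    3 ∣ Nat.card (orbit (stabilizer T P) Q) := by
  set M := stabilizer T P with hM
  let ι : ↥(P : Subgroup T) →* M :=
    Subgroup.inclusion fun g hg => smul_self_of_mem h22 hg
  let _ : MulAction ↥(P : Subgroup T) (orbit M Q) := MulAction.compHom _ ι
  have h := P.2.card_modEq_card_fixedPoints (orbit M Q)
  have hempty : IsEmpty (fixedPoints ↥(P : Subgroup T) (orbit M Q)) := ⟨fun ⟨⟨R, hR⟩, hfix⟩ => by
    have hle : (P : Subgroup T) ≤ R := fun g hg =>
      mem_of_fixed h22 hg (congrArg Subtype.val (hfix ⟨g, hg⟩))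
    have hPR : R = P := Sylow.ext (P.is_maximal' R.2 hle)
    obtain ⟨g, hg⟩ := hR
    refine hQ ?_
    rw [← inv_smul_smul g Q]
    change g⁻¹ • (g • Q) = P
    rw [show g • Q = P from hg.trans hPR]
    exact g⁻¹.2⟩
  rw [Nat.card_of_isEmpty (α := fixedPoints ↥(P : Subgroup T) (orbit M Q))] at h
  exact Nat.modEq_zero_iff_dvd.mp h

/-- Rank three is impossible (`Q` in the smaller orbit). -/
theorem false_of_rank_three_aux {P Q R : Sylow 3 T} (hQ : Q ≠ P) (hR : R ≠ P)
    (hQR : R ∉ orbit (stabilizer T P) Q)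
    (hle' : Nat.card (orbit (stabilizer T P) Q) ≤ Nat.card (orbit (stabilizer T P) R))
    (h3 : Nat.card (orbitRel.Quotient (stabilizer T P) (Sylow 3 T)) ≤ 3) : False := by
  classical
  let _ := Fintype.ofFinite (Sylow 3 T)
  set M := stabilizer T P with hM
  have hPQ : Q ∉ orbit M P := by
    rintro ⟨g, hg⟩
    exact hQ (hg.symm.trans g.2)
  have hPR : R ∉ orbit M P := by
    rintro ⟨g, hg⟩
    exact hR (hg.symm.trans g.2)
  have hcover : ∀ S, S ≠ P → S ∈ orbit M Q ∨ S ∈ orbit M R := by
    intro S hS
    by_contra hc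
    push Not at hc
    have hPS : S ∉ orbit M P := by
      rintro ⟨g, hg⟩
      exact hS (hg.symm.trans g.2)
    set mk : Sylow 3 T → orbitRel.Quotient M (Sylow 3 T) := Quotient.mk'' with hmk
    have hne : ∀ a b, b ∉ orbit M a → mk a ≠ mk b := fun a b hab h =>
      hab (mem_orbit_symm.mp (orbitRel_apply.mp (Quotient.eq''.mp h)))
    have hinj : Function.Injective ![mk P, mk Q, mk R, mk S] := by
      intro i j hij
      fin_cases i <;> fin_cases j <;> simp at hij ⊢ <;>
        first
        | exact absurd hij (hne _ _ hPQ) | exact absurd hij.symm (hne _ _ hPQ)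
        | exact absurd hij (hne _ _ hPR) | exact absurd hij.symm (hne _ _ hPR)
        | exact absurd hij (hne _ _ hPS) | exact absurd hij.symm (hne _ _ hPS)
        | exact absurd hij (hne _ _ hQR) | exact absurd hij.symm (hne _ _ hQR)
        | exact absurd hij (hne _ _ hc.1) | exact absurd hij.symm (hne _ _ hc.1)
        | exact absurd hij (hne _ _ hc.2) | exact absurd hij.symm (hne _ _ hc.2)
    have := Nat.card_le_card_of_injective _ hinj
    rw [Nat.card_eq_fintype_card (α := Fin 4), Fintype.card_fin] at this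
    omega
  -- the two orbits, as finite sets
  set oQ : Finset (Sylow 3 T) := (orbit M Q).toFinite.toFinset with hoQ
  set oR : Finset (Sylow 3 T) := (orbit M R).toFinite.toFinset with hoR
  have hcardQ : oQ.card = Nat.card (orbit M Q) := by
    rw [Nat.card_coe_set_eq, Set.ncard_eq_toFinset_card _ (Set.toFinite _)]
  have hcardR : oR.card = Nat.card (orbit M R) := by
    rw [Nat.card_coe_set_eq, Set.ncard_eq_toFinset_card _ (Set.toFinite _)]
  have hsum : oQ.card + oR.card = 21 := by
    have hd : Disjoint oQ oR := by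
      rw [Finset.disjoint_left]
      intro S h1 h2
      simp only [hoQ, hoR, Set.Finite.mem_toFinset] at h1 h2
      exact hQR (by rw [← orbit_eq_iff.mpr h1, orbit_eq_iff.mpr h2]; exact mem_orbit_self R)
    rw [← Finset.card_union_of_disjoint hd,
      show oQ ∪ oR = Finset.univ.erase P from ?_, Finset.card_erase_of_mem (Finset.mem_univ _),
      Finset.card_univ, ← Nat.card_eq_fintype_card, h22]
    ext S
    simp only [hoQ, hoR, Finset.mem_union, Set.Finite.mem_toFinset, Finset.mem_erase, Finset.mem_univ,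
      and_true]
    refine ⟨?_, hcover S⟩
    rintro (⟨g, hg⟩ | ⟨g, hg⟩) rfl
    · refine hQ ?_
      rw [← inv_smul_smul g Q, show g • Q = S from hg]
      exact g⁻¹.2
    · refine hR ?_
      rw [← inv_smul_smul g R, show g • R = S from hg]
      exact g⁻¹.2
  have hle : oQ.card ≤ oR.card := by rw [hcardQ, hcardR]; exact hle'
  set d := oQ.card with hd
  have hmemD : ∀ S, S ∈ oQ ↔ S ∈ orbit M Q := fun S => by simp [hoQ]
  have hd3 : 3 ∣ d := by
    rw [hd, hoQ, ← Set.ncard_eq_toFinset_card _ (Set.toFinite _), ← Nat.card_coe_set_eq]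
    exact three_dvd_orbit h22 hQ
  have hd0 : 0 < d := Finset.card_pos.mpr ⟨Q, (hmemD Q).mpr (mem_orbit_self Q)⟩
  have hPD : P ∉ oQ := fun h => hPQ (mem_orbit_symm.mp ((hmemD P).mp h))
  have hDinv : ∀ g ∈ M, ∀ S, g • S ∈ oQ ↔ S ∈ oQ := by
    intro g hg S
    rw [hmemD, hmemD]
    refine ⟨fun h => ?_, fun h => mem_orbit_of_mem_orbit (⟨g, hg⟩ : M) h⟩
    have := mem_orbit_of_mem_orbit (⟨g, hg⟩ : M)⁻¹ h
    simpa [Subgroup.smul_def] using this
  -- the orbital graph
  let Rel : Sylow 3 T → Sylow 3 T → Prop := fun x y => ∃ g : T, g • P = x ∧ g⁻¹ • y ∈ oQ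
  have hrelP : ∀ y, Rel P y ↔ y ∈ oQ := by
    intro y
    refine ⟨fun ⟨g, hg, hgy⟩ => ?_, fun h => ⟨1, one_smul _ _, by simpa using h⟩⟩
    exact (hDinv g⁻¹ (inv_smul_eq_iff.mpr hg.symm) y).mp hgy
  have hrelg : ∀ (g : T) x y, Rel (g • x) (g • y) ↔ Rel x y := by
    intro g x y
    constructor
    · rintro ⟨h, hh, hhy⟩
      refine ⟨g⁻¹ * h, by rw [mul_smul, hh, inv_smul_smul], ?_⟩
      rwa [mul_inv_rev, inv_inv, mul_smul]
    · rintro ⟨h, hh, hhy⟩
      exact ⟨g * h, by rw [mul_smul, hh], by rwa [mul_inv_rev, mul_smul, inv_smul_smul]⟩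
  have hrow : ∀ x, (Finset.univ.filter fun y => Rel x y).card = d := by
    intro x
    obtain ⟨g, rfl⟩ := exists_smul_eq T P x
    refine (Finset.card_bij' (fun y _ => g • y) (fun y _ => g⁻¹ • y) ?_ ?_ ?_ ?_).symm
    · intro y hy
      simp only [Finset.mem_filter, Finset.mem_univ, true_and, hrelg, hrelP]
      exact hy
    · intro y hy
      simp only [Finset.mem_filter, Finset.mem_univ, true_and] at hy
      rw [← hrelP, ← hrelg g, smul_inv_smul]
      exact hy
    · intro y _; exact inv_smul_smul g y
    · intro y _; exact smul_inv_smul g y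
  set Din : Finset (Sylow 3 T) := Finset.univ.filter fun x => Rel x P with hDin
  have hcolP : Din.card = d := by
    have hcol : ∀ y, (Finset.univ.filter fun x => Rel x y).card = Din.card := by
      intro y
      obtain ⟨g, rfl⟩ := exists_smul_eq T P y
      refine (Finset.card_bij' (fun x _ => g • x) (fun x _ => g⁻¹ • x) ?_ ?_ ?_ ?_).symm
      · intro x hx
        simp only [Finset.mem_filter, Finset.mem_univ, true_and, hrelg]
        exact (Finset.mem_filter.mp hx).2
      · intro x hx
        simp only [Finset.mem_filter, Finset.mem_univ, true_and, hDin] at hx ⊢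
        rw [← hrelg g, smul_inv_smul]
        exact hx
      · intro y _; exact inv_smul_smul g y
      · intro y _; exact smul_inv_smul g y
    have h := Finset.sum_card_bipartiteAbove_eq_sum_card_bipartiteBelow
      (s := (Finset.univ : Finset (Sylow 3 T))) (t := (Finset.univ : Finset (Sylow 3 T))) Rel
    simp only [Finset.bipartiteAbove, Finset.bipartiteBelow, hrow, hcol, Finset.sum_const,
      Finset.card_univ, smul_eq_mul, ← Nat.card_eq_fintype_card, h22] at h
    omega
  have hDinQ : Din = oQ := by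
    have hinv : ∀ g ∈ M, ∀ S, S ∈ Din → g • S ∈ Din := by
      intro g hg S hS
      simp only [Finset.mem_filter, Finset.mem_univ, true_and, hDin] at hS ⊢
      rw [← show g • P = P from hg, hrelg]
      exact hS
    have hor : ∀ U, U ∈ Din → ∀ S ∈ orbit M U, S ∈ Din := by
      rintro U hU _ ⟨g, rfl⟩
      exact hinv g g.2 U hU
    have hPin : P ∉ Din := fun h => hPD ((hrelP P).mp (Finset.mem_filter.mp h).2)
    by_cases hRin : R ∈ Din
    · exfalso
      have hRsub : oR ⊆ Din := fun S hS => hor R hRin S (by simpa [hoR] using hS)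
      have h1 := Finset.card_le_card hRsub
      omega
    · refine (Finset.eq_of_subset_of_card_le (fun S hS => ?_) (by omega))
      have hSP : S ≠ P := fun e => hPin (e ▸ hS)
      refine (hmemD S).mpr ((hcover S hSP).resolve_right fun h => hRin ?_)
      exact hor S hS R (mem_orbit_symm.mp h)
  have hsymm : ∀ x y, Rel x y → Rel y x := by
    intro x y h
    obtain ⟨g, rfl⟩ := exists_smul_eq T P x
    rw [← smul_inv_smul g y, hrelg] at h ⊢
    rw [hrelP, ← hDinQ, hDin] at h
    exact (Finset.mem_filter.mp h).2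
  have hirr : ∀ x, ¬ Rel x x := by
    intro x h
    obtain ⟨g, rfl⟩ := exists_smul_eq T P x
    rw [hrelg, hrelP] at h
    exact hPD h
  let cnt : Sylow 3 T → Sylow 3 T → ℕ := fun x y =>
    (Finset.univ.filter fun z => Rel x z ∧ Rel z y).card
  have hcntg : ∀ (g : T) x y, cnt (g • x) (g • y) = cnt x y := by
    intro g x y
    refine (Finset.card_bij' (fun z _ => g • z) (fun z _ => g⁻¹ • z) ?_ ?_ ?_ ?_).symm
    · intro z hz
      simp only [Finset.mem_filter, Finset.mem_univ, true_and, hrelg] at hz ⊢
      exact hz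
    · intro z hz
      simp only [Finset.mem_filter, Finset.mem_univ, true_and] at hz ⊢
      rw [← hrelg g, ← hrelg g (g⁻¹ • z) y, smul_inv_smul]
      exact hz
    · intro z _; exact inv_smul_smul g z
    · intro z _; exact smul_inv_smul g z
  set l := cnt P Q with hl
  set m := cnt P R with hm
  have hval : ∀ y, cnt P y = if y = P then d else if y ∈ oQ then l else m := by
    intro y
    split_ifs with h1 h2
    · subst h1
      rw [← hrow y]
      show (Finset.univ.filter fun z => Rel y z ∧ Rel z y).card = _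
      refine congrArg Finset.card ?_
      exact Finset.filter_congr fun z _ => ⟨fun h => h.1, fun h => ⟨h, hsymm _ _ h⟩⟩
    · obtain ⟨g, rfl⟩ := (hmemD y).mp h2
      conv_lhs => rw [← show (g : T) • P = P from g.2]
      exact hcntg g P Q
    · obtain ⟨g, rfl⟩ := (hcover y h1).resolve_left fun h => h2 ((hmemD y).mpr h)
      conv_lhs => rw [← show (g : T) • P = P from g.2]
      exact hcntg g P R
  have hvalg : ∀ x y, cnt x y = if y = x then d else if Rel x y then l else m := by
    intro x y
    obtain ⟨g, rfl⟩ := exists_smul_eq T P x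
    rw [← smul_inv_smul g y, hcntg, hval, hrelg, hrelP]
    simp only [smul_inv_smul, inv_smul_eq_iff]
    split_ifs <;> rfl
  -- counting paths of length two
  have hcount : d * d = d + d * l + (21 - d) * m := by
    have h1 : ∑ y, cnt P y = d * d := by
      have h := Finset.sum_card_bipartiteAbove_eq_sum_card_bipartiteBelow
        (s := (Finset.univ : Finset (Sylow 3 T))) (t := Finset.univ.filter fun z => Rel P z)
        (fun y z => Rel z y)
      simp only [Finset.bipartiteAbove, Finset.bipartiteBelow, Finset.filter_filter] at h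
      rw [show (∑ y, cnt P y) = ∑ y, (Finset.univ.filter fun z => Rel P z ∧ Rel z y).card from rfl, h,
        Finset.sum_congr rfl (fun z _ => hrow z), Finset.sum_const, hrow, smul_eq_mul]
    rw [← h1, ← Finset.add_sum_erase _ _ (Finset.mem_univ P), hval P, if_pos rfl,
      Finset.sum_congr rfl (g := fun y => if y ∈ oQ then l else m)
        (fun y hy => by rw [hval, if_neg (Finset.ne_of_mem_erase hy)]),
      Finset.sum_ite, Finset.sum_const, Finset.sum_const, smul_eq_mul, smul_eq_mul, add_assoc]
    have h2 : ((Finset.univ.erase P).filter fun y => y ∈ oQ).card = d := by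
      congr 1
      ext y
      simp only [Finset.mem_filter, Finset.mem_erase, Finset.mem_univ, and_true]
      exact ⟨fun h => h.2, fun h => ⟨fun e => hPD (e ▸ h), h⟩⟩
    have h3 := Finset.card_filter_add_card_filter_not (s := Finset.univ.erase P) (fun y => y ∈ oQ)
    rw [h2, Finset.card_erase_of_mem (Finset.mem_univ _), Finset.card_univ,
      ← Nat.card_eq_fintype_card, h22] at h3
    rw [h2, show ((Finset.univ.erase P).filter fun y => ¬y ∈ oQ).card = 21 - d by omega]
  have hQin : Q ∈ oQ := (hmemD Q).mpr (mem_orbit_self Q)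
  have hlsub : (Finset.univ.filter fun z => Rel P z ∧ Rel z Q) ⊆ oQ.erase Q := by
    intro z hz
    simp only [Finset.mem_filter, Finset.mem_univ, true_and] at hz
    exact Finset.mem_erase.mpr ⟨fun e => hirr Q (e ▸ hz.2), (hrelP z).mp hz.1⟩
  have hlle : l ≤ d - 1 := by
    refine (Finset.card_le_card hlsub).trans ?_
    rw [Finset.card_erase_of_mem hQin]
  -- no block
  have hblock : ¬ l = d - 1 := by
    intro hl1
    have hall : ∀ z ∈ oQ.erase Q, Rel Q z := by
      intro z hz
      have heq := Finset.eq_of_subset_of_card_le hlsub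
        (by rw [Finset.card_erase_of_mem hQin]; exact hl1.ge)
      exact hsymm _ _ (Finset.mem_filter.mp (heq.symm ▸ hz)).2.2
    set B : Set (Sylow 3 T) := insert P (oQ : Set (Sylow 3 T)) with hB
    have hNQ : ∀ z, Rel Q z → z ∈ B := by
      intro z hz
      have hsub : insert P (oQ.erase Q) ⊆ Finset.univ.filter fun y => Rel Q y := by
        intro y hy
        simp only [Finset.mem_filter, Finset.mem_univ, true_and]
        rcases Finset.mem_insert.mp hy with rfl | h
        · exact hsymm _ _ ((hrelP Q).mpr hQin)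
        · exact hall y h
      have heq := Finset.eq_of_subset_of_card_le hsub (by
        rw [hrow, Finset.card_insert_of_notMem (fun h => hPD (Finset.mem_of_mem_erase h)),
          Finset.card_erase_of_mem hQin]
        omega)
      have : z ∈ insert P (oQ.erase Q) := by rw [heq]; simpa using hz
      rcases Finset.mem_insert.mp this with rfl | h
      · exact Set.mem_insert _ _
      · exact Set.mem_insert_of_mem _ (Finset.mem_of_mem_erase h)
    set L := stabilizer T B with hL
    have hML : Subgroup.normalizer ((P : Subgroup T) : Set T) ≤ L := by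
      intro g hg
      have hgM : g • P = P := Sylow.smul_eq_iff_mem_normalizer.mpr hg
      rw [hL, mem_stabilizer_iff, hB, Set.smul_set_insert, hgM]
      congr 1
      ext y
      rw [Set.mem_smul_set_iff_inv_smul_mem, Finset.mem_coe, Finset.mem_coe]
      exact hDinv g⁻¹ (inv_smul_eq_iff.mpr hgM.symm) y
    obtain ⟨g, hg⟩ := exists_smul_eq T P Q
    have hgL : g ∈ L := by
      rw [hL, mem_stabilizer_iff]
      refine Set.eq_of_subset_of_ncard_le ?_ (by rw [Set.ncard_smul_set]) (Set.toFinite _)
      rintro _ ⟨y, hy, rfl⟩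
      change g • y ∈ B
      rcases Set.mem_insert_iff.mp hy with rfl | h
      · rw [hg]; exact Set.mem_insert_of_mem _ hQin
      · exact hNQ _ (hg ▸ (hrelg g P y).mpr ((hrelP y).mpr h))
    rcases maximal_normalizer h22 P hML with h | h
    · exact hQ (hg.symm.trans (Sylow.smul_eq_iff_mem_normalizer.mpr (h ▸ hgL)))
    · obtain ⟨g', hg'⟩ := exists_smul_eq T P R
      have hg'L : g' ∈ L := h ▸ Subgroup.mem_top g'
      have : R ∈ B := by
        rw [← show g' • B = B from hg'L, ← hg']
        exact Set.smul_mem_smul_set (Set.mem_insert _ _)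
      rcases Set.mem_insert_iff.mp this with e | e
      · exact hR e
      · exact hQR ((hmemD R).mp e)
  -- adjacency matrix
  let A : Matrix (Sylow 3 T) (Sylow 3 T) ℝ := Matrix.of fun x y => if Rel x y then 1 else 0
  have hmat := srg_constraint (by rw [← Nat.card_eq_fintype_card, h22]) A (d : ℤ) (l : ℤ) (m : ℤ)
    (fun x => if_neg (hirr x))
    (fun x => by simp [A, Finset.sum_boole, hrow])
    (fun y => by
      simp only [A, Matrix.of_apply, Finset.sum_boole, Int.cast_natCast, Nat.cast_inj]
      rw [← hrow y]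
      congr 1
      exact Finset.filter_congr fun z _ => ⟨hsymm _ _, hsymm _ _⟩)
    (by
      ext x y
      have h : (A * A) x y = (cnt x y : ℝ) := by
        simp only [A, cnt, Matrix.mul_apply, Matrix.of_apply, ite_zero_mul_ite_zero, one_mul,
          Finset.sum_boole]
      rw [h, hvalg]
      simp only [Matrix.add_apply, Matrix.smul_apply, Matrix.of_apply, A, smul_eq_mul, Matrix.one_apply]
      by_cases hxy : y = x
      · subst hxy
        rw [if_pos rfl, if_pos rfl, if_neg (hirr _)]
        push_cast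
        ring
      · rw [if_neg hxy, if_neg (Ne.symm hxy)]
        split_ifs <;> push_cast <;> ring)
  have hd9 : d ≤ 9 := by omega
  rcases (show d = 3 ∨ d = 6 ∨ d = 9 by omega) with h | h | h <;> rw [h] at hcount hlle hblock hmat
  · interval_cases l <;> omega
  · interval_cases l <;> first | omega | (
      have hm2 : (m : ℤ) = 2 := by omega
      rw [hm2] at hmat
      obtain ⟨n, hn, e⟩ := hmat (by norm_num) (by norm_num)
      interval_cases n <;> norm_num at e)
  · interval_cases l <;> first | omega | (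
      have hm2 : (m : ℤ) = 6 ∨ (m : ℤ) = 3 := by omega
      rcases hm2 with hm2 | hm2 <;> rw [hm2] at hmat <;> first | omega |
        (obtain ⟨n, hn, e⟩ := hmat (by norm_num) (by norm_num)
         interval_cases n <;> norm_num at e))

/-- Rank three is impossible. -/
theorem false_of_rank_three {P Q R : Sylow 3 T} (hQ : Q ≠ P) (hR : R ≠ P)
    (hQR : R ∉ orbit (stabilizer T P) Q)
    (h3 : Nat.card (orbitRel.Quotient (stabilizer T P) (Sylow 3 T)) ≤ 3) : False := by
  rcases le_total (Nat.card (orbit (stabilizer T P) Q)) (Nat.card (orbit (stabilizer T P) R))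
    with h | h
  · exact false_of_rank_three_aux h22 hQ hR hQR h h3
  · exact false_of_rank_three_aux h22 hR hQ (fun h' => hQR (mem_orbit_symm.mp h')) h h3

theorem card_orbit_three {P : Sylow 3 T}
    (htr : ∀ Q R : Sylow 3 T, Q ≠ P → R ≠ P → R ∈ orbit (stabilizer T P) Q)
    {Q : Sylow 3 T} (hQ : Q ≠ P) : Nat.card (orbit ↥(P : Subgroup T) Q) = 3 := by
  rcases (card_orbit_sylow h22 hQ).1 with h | h
  · exact h
  exfalso
  set M := stabilizer T P with hM
  have hPM : (P : Subgroup T) ≤ M := fun g hg => smul_self_of_mem h22 hg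
  set P' := (P : Subgroup T).subgroupOf M with hP'
  have hn : P'.Normal := by
    rw [hP', Subgroup.normal_subgroupOf_iff_le_normalizer hPM]
    exact fun g hg => Sylow.smul_eq_iff_mem_normalizer.mp hg
  set S := stabilizer M Q with hS
  have h21 : S.index = 21 := by
    rw [hS, index_stabilizer]
    have : orbit M Q = ({P}ᶜ : Set (Sylow 3 T)) := by
      ext R
      refine ⟨?_, fun hR => htr Q R hQ hR⟩
      rintro ⟨g, rfl⟩ e
      rw [Set.mem_singleton_iff] at e
      change g • Q = P at e
      refine hQ ?_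
      rw [← inv_smul_smul g Q, e]
      exact g⁻¹.2
    rw [this]
    have h1 := Set.ncard_add_ncard_compl ({P} : Set (Sylow 3 T))
    rw [Set.ncard_singleton, h22] at h1
    omega
  have h1 : S.relIndex P' ∣ 21 := by
    rw [← h21]
    have hc : ∀ {U V : Subgroup M}, U ≤ V → Nat.card U * U.relIndex V = Nat.card V :=
      fun h => by simpa using Subgroup.relIndex_mul_relIndex (⊥ : Subgroup M) _ _ bot_le h
    have h1 := hc (le_sup_left : S ≤ S ⊔ P')
    have h2 := hc (le_sup_right : P' ≤ S ⊔ P')
    rw [Subgroup.relIndex_sup_right] at h2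
    have h3 := hc (inf_le_right : S ⊓ P' ≤ P')
    have h4 := hc (inf_le_left : S ⊓ P' ≤ S)
    rw [Subgroup.inf_relIndex_right] at h3
    rw [Subgroup.inf_relIndex_left] at h4
    have heq : S.relIndex (S ⊔ P') = S.relIndex P' := by
      apply Nat.eq_of_mul_eq_mul_left (Nat.card_pos (α := S))
      rw [h1, ← h2, ← h3, ← h4]
      ring
    rw [← heq]
    exact Subgroup.relIndex_dvd_index_of_le le_sup_left
  have h2 : S.relIndex P' = 9 := by
    rw [← h, Nat.card_congr (orbitEquivQuotientStabilizer ↥(P : Subgroup T) Q)]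
    change _ = (stabilizer ↥(P : Subgroup T) Q).index
    rw [hS, hP', show stabilizer M Q = (stabilizer T Q).subgroupOf M from rfl,
      Subgroup.relIndex_subgroupOf hPM]
    rfl
  rw [h2] at h1
  norm_num at h1

/-- Rank two with `|P| > 3` is impossible. -/
theorem false_of_design
    (htr : ∀ P Q R : Sylow 3 T, Q ≠ P → R ≠ P → R ∈ orbit (stabilizer T P) Q)
    {P₀ : Sylow 3 T} (hbig : Nat.card P₀ ≠ 3) : False := by
  classical
  let _ := Fintype.ofFinite (Sylow 3 T)
  have hPcard : ∀ P : Sylow 3 T, Nat.card P = Nat.card P₀ := fun P => by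
    rw [P.card_eq_multiplicity, P₀.card_eq_multiplicity]
  have hinter : ∀ x y : Sylow 3 T, y ≠ x →
      3 * Nat.card ↥((x : Subgroup T) ⊓ y) = Nat.card P₀ := by
    intro x y hxy
    have h3' := card_orbit_three h22 (htr x) hxy
    rw [Nat.card_congr (orbitEquivQuotientStabilizer ↥(x : Subgroup T) y)] at h3'
    rw [← hPcard x]
    refine (congrArg (· * _) h3'.symm).trans ?_
    have : stabilizer ↥(x : Subgroup T) y = ((x : Subgroup T) ⊓ y).subgroupOf x := by
      ext g
      rw [Subgroup.mem_subgroupOf, mem_stabilizer_iff]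
      exact ⟨fun h => ⟨g.2, mem_of_fixed h22 g.2 h⟩, fun h => smul_self_of_mem h22 h.2⟩
    rw [this, mul_comm, ← Nat.card_congr (Subgroup.subgroupOfEquivOfLe
      (inf_le_left : (x : Subgroup T) ⊓ y ≤ x)).toEquiv]
    exact Subgroup.card_mul_index _
  let line : Sylow 3 T → Sylow 3 T → Finset (Sylow 3 T) := fun x y =>
    Finset.univ.filter fun z => (x : Subgroup T) ⊓ y ≤ z
  have hmem : ∀ x y z, z ∈ line x y ↔ (x : Subgroup T) ⊓ y ≤ z := fun x y z => by simp [line]
  have hpair : ∀ x y z w, y ≠ x → w ≠ z → z ∈ line x y → w ∈ line x y → line z w = line x y := by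
    intro x y z w hxy hzw hz hw
    rw [hmem] at hz hw
    have hle : (x : Subgroup T) ⊓ y ≤ (z : Subgroup T) ⊓ w := le_inf hz hw
    have heq := Subgroup.eq_of_le_of_card_ge hle (by have := hinter x y hxy; have := hinter z w hzw; omega)
    ext u
    rw [hmem, hmem, heq]
  have hleft : ∀ x y, x ∈ line x y := fun x y => (hmem _ _ _).mpr inf_le_left
  have hright : ∀ x y, y ∈ line x y := fun x y => (hmem _ _ _).mpr inf_le_right
  have hsmul : ∀ (g : T) x y z, z ∈ line x y → g • z ∈ line (g • x) (g • y) := by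
    intro g x y z hz
    rw [hmem] at hz ⊢
    rw [Sylow.coe_subgroup_smul, Sylow.coe_subgroup_smul, Sylow.coe_subgroup_smul,
      ← Subgroup.smul_inf]
    exact Subgroup.pointwise_smul_le_pointwise_smul_iff.mpr hz
  have hlinecard : ∀ (g : T) x y, (line (g • x) (g • y)).card = (line x y).card := by
    intro g x y
    refine (Finset.card_bij' (fun z _ => g • z) (fun z _ => g⁻¹ • z) ?_ ?_ ?_ ?_).symm
    · intro z hz; exact hsmul g x y z hz
    · intro z hz; simpa using hsmul g⁻¹ _ _ z hz
    · intro z _; exact inv_smul_smul g z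
    · intro z _; exact smul_inv_smul g z
  obtain ⟨Q₀, hQ₀⟩ : ∃ Q, Q ≠ P₀ := Fintype.exists_ne_of_one_lt_card
    (by rw [← Nat.card_eq_fintype_card, h22]; norm_num) P₀
  set k := ((line P₀ Q₀).erase P₀).card with hk
  have hconst : ∀ x y, y ≠ x → ((line x y).erase x).card = k := by
    intro x y hxy
    rw [hk, Finset.card_erase_of_mem (hleft _ _), Finset.card_erase_of_mem (hleft _ _)]
    obtain ⟨g, hg⟩ := exists_smul_eq T x P₀
    obtain ⟨h, hh⟩ := htr P₀ (g • y) Q₀ (fun e => hxy (smul_left_cancel g (e.trans hg.symm))) hQ₀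
    change (h : T) • g • y = Q₀ at hh
    rw [← hlinecard g x y, ← hlinecard (h : T) (g • x) (g • y), hh, hg,
      show (h : T) • P₀ = P₀ from h.2]
  have hclasses : ∀ x, ((Finset.univ.erase x).image (line x)).card * k = 21 := by
    intro x
    have h1 := Finset.card_eq_sum_card_image (line x) (Finset.univ.erase x)
    rw [Finset.card_erase_of_mem (Finset.mem_univ _), Finset.card_univ, ← Nat.card_eq_fintype_card,
      h22, Finset.sum_congr rfl (g := fun _ => k)] at h1
    · rw [Finset.sum_const, smul_eq_mul] at h1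
      exact h1.symm
    intro L hL
    obtain ⟨y, hy, rfl⟩ := Finset.mem_image.mp hL
    have hyx := Finset.ne_of_mem_erase hy
    rw [← hconst x y hyx]
    congr 1
    ext z
    simp only [Finset.mem_filter, Finset.mem_erase, Finset.mem_univ, and_true]
    refine ⟨fun ⟨hzx, hz⟩ => ⟨hzx, hz ▸ hright x z⟩, fun ⟨hzx, hz⟩ => ⟨hzx, ?_⟩⟩
    exact hpair x y x z hyx hzx (hleft x y) hz
  have hk3 : 3 ≤ k := by
    have h3' := card_orbit_three h22 (htr P₀) hQ₀
    rw [Nat.card_coe_set_eq, Set.ncard_eq_toFinset_card _ (Set.toFinite _)] at h3'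
    refine le_trans (le_of_eq h3'.symm) ?_
    rw [hk]
    refine Finset.card_le_card fun z hz => ?_
    rw [Set.Finite.mem_toFinset] at hz
    obtain ⟨g, rfl⟩ := hz
    change (g : T) • Q₀ ∈ _
    rw [Finset.mem_erase, hmem]
    refine ⟨fun e => (card_orbit_sylow h22 hQ₀).2 ⟨g, e⟩, ?_⟩
    intro u hu
    have hu' : (g : T)⁻¹ * u * g ∈ Q₀ := by
      have hnorm : (((P₀ : Subgroup T) ⊓ Q₀).subgroupOf P₀).Normal := by
        refine Subgroup.normal_of_index_eq_minFac_card ?_
        have h3 : (((P₀ : Subgroup T) ⊓ Q₀).subgroupOf P₀).index = 3 := by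
          have h := Subgroup.card_mul_index (((P₀ : Subgroup T) ⊓ Q₀).subgroupOf P₀)
          rw [Nat.card_congr (Subgroup.subgroupOfEquivOfLe (inf_le_left :
            (P₀ : Subgroup T) ⊓ Q₀ ≤ P₀)).toEquiv, ← hinter P₀ Q₀ hQ₀, mul_comm 3] at h
          exact Nat.eq_of_mul_eq_mul_left Nat.card_pos h
        rw [h3]
        obtain ⟨n, hn⟩ := IsPGroup.exists_card_eq P₀.2
        rw [hn]
        rcases n with _ | n
        · rw [← hinter P₀ Q₀ hQ₀] at hn
          omega
        · exact (Nat.prime_three.pow_minFac (Nat.succ_ne_zero n)).symm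
      have := hnorm.conj_mem ⟨u, hu.1⟩ (by exact hu) g⁻¹
      rw [Subgroup.mem_subgroupOf] at this
      simpa using this.2
    rw [Sylow.coe_subgroup_smul, Subgroup.mem_pointwise_smul_iff_inv_smul_mem]
    simp only [MulAut.smul_def, MulAut.inv_def]
    simp
    exact hu'
  have hk21 : k ≠ 21 := by
    intro h
    have huniv : ∀ z : Sylow 3 T, (P₀ : Subgroup T) ⊓ Q₀ ≤ z := by
      intro z
      refine (hmem _ _ z).mp ?_
      by_contra hz
      have hsub : (line P₀ Q₀).erase P₀ ⊆ (Finset.univ.erase P₀).erase z := fun w hw =>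
        Finset.mem_erase.mpr ⟨fun e => hz (e ▸ Finset.mem_of_mem_erase hw),
          Finset.mem_erase.mpr ⟨Finset.ne_of_mem_erase hw, Finset.mem_univ _⟩⟩
      have h1 := Finset.card_le_card hsub
      rw [Finset.card_erase_of_mem (Finset.mem_erase.mpr
        ⟨fun (e : z = P₀) => hz (e ▸ hleft P₀ Q₀), Finset.mem_univ _⟩),
        Finset.card_erase_of_mem (Finset.mem_univ _), Finset.card_univ,
        ← Nat.card_eq_fintype_card, h22] at h1
      omega
    have hone : (P₀ : Subgroup T) ⊓ Q₀ = ⊥ := by
      rw [eq_bot_iff]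
      intro u hu
      rw [Subgroup.mem_bot]
      exact eq_one_of_fixes_all h22 fun z => smul_self_of_mem h22 (huniv z hu)
    have := hinter P₀ Q₀ hQ₀
    rw [hone, Subgroup.card_bot] at this
    omega
  set c := ((Finset.univ.erase P₀).image (line P₀)).card with hc
  have hc' : ∀ x, ((Finset.univ.erase x).image (line x)).card = c := fun x =>
    Nat.eq_of_mul_eq_mul_right (by omega : 0 < k) ((hclasses x).trans (hclasses P₀).symm)
  -- double counting
  set Lines : Finset (Finset (Sylow 3 T)) :=
    (Finset.univ.filter fun p : Sylow 3 T × Sylow 3 T => p.2 ≠ p.1).image fun p => line p.1 p.2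
    with hLines
  have hLcard : ∀ L ∈ Lines, L.card = k + 1 := by
    intro L hL
    obtain ⟨p, hp, rfl⟩ := Finset.mem_image.mp hL
    rw [← hconst p.1 p.2 (Finset.mem_filter.mp hp).2, Finset.card_erase_of_mem (hleft _ _)]
    have := Finset.card_pos.mpr ⟨_, hleft p.1 p.2⟩
    omega
  have hthrough : ∀ x, (Lines.filter fun L => x ∈ L) = (Finset.univ.erase x).image (line x) := by
    intro x
    ext L
    simp only [Finset.mem_filter, Finset.mem_image, Finset.mem_erase, Finset.mem_univ, and_true,
      hLines, true_and, Prod.exists]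
    constructor
    · rintro ⟨⟨a, b, hab, rfl⟩, hx⟩
      by_cases hax : a = x
      · subst hax; exact ⟨b, hab, rfl⟩
      · exact ⟨a, hax, hpair a b x a hab hax hx (hleft a b)⟩
    · rintro ⟨y, hy, rfl⟩
      exact ⟨⟨x, y, hy, rfl⟩, hleft x y⟩
  have hdc := Finset.sum_card_bipartiteAbove_eq_sum_card_bipartiteBelow
    (s := (Finset.univ : Finset (Sylow 3 T))) (t := Lines) (fun x L => x ∈ L)
  simp only [Finset.bipartiteAbove, Finset.bipartiteBelow, Finset.filter_mem_eq_inter,
    Finset.univ_inter] at hdc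
  rw [Finset.sum_congr rfl (fun x _ => (congrArg Finset.card (hthrough x)).trans (hc' x)),
    Finset.sum_congr rfl hLcard, Finset.sum_const, Finset.sum_const, Finset.card_univ,
    ← Nat.card_eq_fintype_card, h22, smul_eq_mul, smul_eq_mul] at hdc
  have hck : c * k = 21 := hclasses P₀
  have hc21 : c ≤ 7 := by nlinarith
  have hk' : c = 1 ∧ k = 21 ∨ c = 3 ∧ k = 7 ∨ c = 7 ∧ k = 3 := by
    interval_cases c <;> omega
  rcases hk' with ⟨e1, e2⟩ | ⟨e1, e2⟩ | ⟨e1, e2⟩ <;> rw [e1, e2] at hdc <;> omega

/-- Rank two with `|P| = 3` is impossible. -/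
theorem false_of_card_three {P : Sylow 3 T} (h3 : Nat.card P = 3)
    (htr : ∀ Q R : Sylow 3 T, Q ≠ P → R ≠ P → R ∈ orbit (stabilizer T P) Q) : False := by
  classical
  let _ := Fintype.ofFinite (Sylow 3 T)
  obtain ⟨q, hq⟩ := exists_eleven h22
  have hMmod := (normalizer_facts h22 hq).2 P
  set M := Subgroup.normalizer ((P : Subgroup T) : Set T) with hM
  set C := Subgroup.centralizer ((P : Subgroup T) : Set T) with hC
  have hCM : C ≤ M := Subgroup.centralizer_le_normalizer _
  have hcyc : IsCyclic P := isCyclic_of_prime_card h3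
  have hidx : (C.subgroupOf M).index ∣ 2 := by
    rw [← Subgroup.normalizerMonoidHom_ker, Subgroup.index_ker]
    refine (Subgroup.card_subgroup_dvd_card _).trans ?_
    rw [IsCyclic.card_mulAut, h3, Nat.totient_prime (by norm_num)]
  have hCcard : Nat.card C * (C.subgroupOf M).index = Nat.card M := by
    rw [← Subgroup.card_mul_index (C.subgroupOf M),
      Nat.card_congr (Subgroup.subgroupOfEquivOfLe hCM).toEquiv]
  have hPC : (P : Subgroup T) ≤ C := by
    intro g hg
    rw [hC, Subgroup.mem_centralizer_iff]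
    intro z hz
    exact congrArg Subtype.val (mul_comm' (⟨z, hz⟩ : P) ⟨g, hg⟩)
  have hfix : ∀ c ∈ C, c • P = P := fun c hc => Sylow.smul_eq_iff_mem_normalizer.mpr (hCM hc)
  have horb : ∀ {Q : Sylow 3 T}, Q ≠ P → Nat.card (orbit ↥(P : Subgroup T) Q) = 3 :=
    fun hQ => card_orbit_three h22 htr hQ
  have hstab : ∀ {Q : Sylow 3 T}, Q ≠ P → ∀ g ∈ P, g • Q = Q → g = 1 := by
    intro Q hQ g hg hgQ
    have h := horb hQ
    rw [Nat.card_congr (orbitEquivQuotientStabilizer _ Q), ← Subgroup.index_eq_card] at h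
    have h' := Subgroup.card_mul_index (stabilizer ↥(P : Subgroup T) Q)
    rw [h, h3] at h'
    have hb : stabilizer ↥(P : Subgroup T) Q = ⊥ := Subgroup.eq_bot_of_card_eq _ (by omega)
    have : (⟨g, hg⟩ : P) ∈ stabilizer ↥(P : Subgroup T) Q := hgQ
    rw [hb, Subgroup.mem_bot] at this
    exact congrArg Subtype.val this
  have hp3 : ∀ g ∈ P, g ^ 3 = 1 := fun g hg => by
    have h := Subgroup.orderOf_dvd_natCard (P : Subgroup T) hg
    rw [h3] at h
    exact orderOf_dvd_iff_pow_eq_one.mp h
  -- the seven blocks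
  set B := {s : Set (Sylow 3 T) // ∃ Q, Q ≠ P ∧ s = orbit ↥(P : Subgroup T) Q} with hB
  have hmove : ∀ c ∈ C, ∀ Q : Sylow 3 T, c • orbit ↥(P : Subgroup T) Q = orbit ↥(P : Subgroup T) (c • Q) := by
    intro c hc Q
    ext z
    rw [Set.mem_smul_set]
    constructor
    · rintro ⟨_, ⟨g, rfl⟩, rfl⟩
      refine ⟨g, ?_⟩
      change (g : T) • c • Q = c • ((g : T) • Q)
      rw [← mul_smul, ← mul_smul, Subgroup.mem_centralizer_iff.mp hc g g.2]
    · rintro ⟨g, rfl⟩
      refine ⟨(g : T) • Q, ⟨g, rfl⟩, ?_⟩
      change c • (g : T) • Q = (g : T) • c • Q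
      rw [← mul_smul, ← mul_smul, Subgroup.mem_centralizer_iff.mp hc g g.2]
  let _ : MulAction C B :=
    { smul := fun c s => ⟨(c : T) • s.1, by
        obtain ⟨Q, hQ, hs⟩ := s.2
        refine ⟨(c : T) • Q, fun e => hQ (smul_left_cancel (c : T) (e.trans (hfix c c.2).symm)), ?_⟩
        rw [hs, hmove c c.2]⟩
      one_smul := fun s => Subtype.ext (one_smul T s.1)
      mul_smul := fun a b s => Subtype.ext (mul_smul (a : T) b s.1) }
  have hval : ∀ (c : C) (s : B), (c • s).1 = (c : T) • s.1 := fun _ _ => rfl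
  let _ := Fintype.ofFinite B
  let blk : {Q : Sylow 3 T // Q ≠ P} → B := fun Q => ⟨_, Q.1, Q.2, rfl⟩
  have hB7 : Fintype.card B = 7 := by
    let e : (b : B) × {Q : {Q : Sylow 3 T // Q ≠ P} // blk Q = b} ≃ {Q : Sylow 3 T // Q ≠ P} :=
      Equiv.sigmaFiberEquiv blk
    have hfib : ∀ b : B, Nat.card {Q : {Q : Sylow 3 T // Q ≠ P} // blk Q = b} = 3 := by
      rintro ⟨_, Q, hQ, rfl⟩
      refine Eq.trans ?_ (horb hQ)
      refine Nat.card_congr ⟨fun x => ⟨x.1.1, ?_⟩, fun z => ⟨⟨z.1, ?_⟩, ?_⟩,
        fun _ => rfl, fun _ => rfl⟩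
      · have h : orbit ↥(P : Subgroup T) x.1.1 = orbit ↥(P : Subgroup T) Q := congrArg Subtype.val x.2
        exact (Set.ext_iff.mp h _).mp (mem_orbit_self _)
      · intro e
        have h := z.2
        rw [e] at h
        exact (card_orbit_sylow h22 hQ).2 h
      · exact Subtype.ext (orbit_eq_iff.mpr z.2)
    have h := Nat.card_congr e
    rw [Nat.card_sigma, Finset.sum_congr rfl fun b _ => hfib b, Finset.sum_const, Finset.card_univ,
      smul_eq_mul, Nat.card_eq_fintype_card, Fintype.card_subtype_compl, Fintype.card_subtype_eq,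
      ← Nat.card_eq_fintype_card (α := Sylow 3 T), h22] at h
    omega
  set φ : C →* Equiv.Perm B := MulAction.toPermHom C B with hφ
  have hφapply : ∀ c b, φ c b = c • b := fun _ _ => rfl
  have hblockfix : ∀ (c : C) (Q : {Q : Sylow 3 T // Q ≠ P}), c • blk Q = blk Q →
      ∃ g ∈ P, (g : T) • Q.1 = (c : T) • Q.1 := by
    intro c Q h
    have h' := congrArg Subtype.val h
    rw [hval] at h'
    have : (c : T) • Q.1 ∈ (blk Q).1 := h' ▸ Set.smul_mem_smul_set (mem_orbit_self Q.1)
    obtain ⟨g, hg⟩ := this
    exact ⟨g, g.2, hg⟩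
  have hker : φ.ker = (P : Subgroup T).subgroupOf C := by
    apply le_antisymm
    · intro c hc
      rw [Subgroup.mem_subgroupOf]
      have hc3 : (c : T) ^ 3 = 1 := by
        refine eq_one_of_fixes_all h22 fun Q => ?_
        by_cases hQ : Q = P
        · rw [hQ]; exact hfix _ (pow_mem c.2 3)
        have hcb : c • blk ⟨Q, hQ⟩ = blk ⟨Q, hQ⟩ := by
          rw [← hφapply, MonoidHom.mem_ker.mp hc]; rfl
        obtain ⟨g, hg, hgQ⟩ := hblockfix c ⟨Q, hQ⟩ hcb
        have hcg : Commute (c : T) g := (Subgroup.mem_centralizer_iff.mp c.2 g hg).symm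
        have hpow : ∀ n : ℕ, (c : T) ^ n • Q = g ^ n • Q := by
          intro n
          induction n with
          | zero => simp
          | succ n ih =>
            rw [pow_succ' (c : T), mul_smul, ih, ← mul_smul, (hcg.pow_right n).eq, mul_smul, ← hgQ,
              ← mul_smul, ← pow_succ]
        rw [hpow, show g ^ 3 = 1 from
          hp3 g hg, one_smul]
      have hpg : IsPGroup 3 (Subgroup.zpowers (c : T)) := by
        obtain ⟨k, -, hk⟩ := (Nat.dvd_prime_pow Nat.prime_three).mp
          (orderOf_dvd_of_pow_eq_one hc3 : orderOf (c : T) ∣ 3 ^ 1)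
        exact IsPGroup.of_card (n := k) (by rw [Nat.card_zpowers, hk])
      have h1 : (c : T) ∈ Subgroup.zpowers (c : T) ⊓ M := ⟨Subgroup.mem_zpowers _, hCM c.2⟩
      rw [hM, Sylow.coe_coe, hpg.inf_normalizer_sylow] at h1
      exact h1.2
    · intro c hc
      rw [Subgroup.mem_subgroupOf] at hc
      rw [MonoidHom.mem_ker]
      ext b : 1
      rw [hφapply]
      obtain ⟨_, Q, hQ, rfl⟩ := b
      apply Subtype.ext
      rw [hval, hmove c c.2]
      exact orbit_eq_iff.mpr ⟨⟨c, hc⟩, rfl⟩
  set H := φ.range with hH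
  have hcardC : Nat.card C = 3 * Nat.card H := by
    rw [← Subgroup.card_mul_index φ.ker, Subgroup.index_ker, hker,
      Nat.card_congr (Subgroup.subgroupOfEquivOfLe hPC).toEquiv, h3]
  have hMT : Nat.card M * 22 = Nat.card T := by
    rw [← Subgroup.card_mul_index M, hM]
    congr 1
    rw [← h22, P.card_eq_index_normalizer]
    rfl
  have h9 : ¬ 9 ∣ Nat.card T := by
    intro h
    have e := P.card_eq_multiplicity
    rw [h3] at e
    have h2 : 3 ^ 2 ∣ Nat.card T := h
    have := (Nat.prime_three.pow_dvd_iff_le_factorization Nat.card_pos.ne').mp h2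
    have := Nat.pow_le_pow_right (by norm_num : 1 ≤ 3) this
    omega
  have hH3 : ¬ 3 ∣ Nat.card H := by
    intro h
    refine h9 ?_
    rw [← hMT, ← hCcard, hcardC]
    exact ((mul_dvd_mul_left 3 h : 3 * 3 ∣ _).mul_right _).mul_right _
  have h7M : 7 ∣ Nat.card M := by
    obtain ⟨Q, hQ⟩ : ∃ Q, Q ≠ P :=
      Fintype.exists_ne_of_one_lt_card (by rw [← Nat.card_eq_fintype_card, h22]; norm_num) P
    have : orbit (stabilizer T P) Q = ({P}ᶜ : Set (Sylow 3 T)) := by
      ext R
      refine ⟨?_, fun hR => htr Q R hQ hR⟩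
      rintro ⟨g, rfl⟩ e
      rw [Set.mem_singleton_iff] at e
      change g • Q = P at e
      refine hQ ?_
      rw [← inv_smul_smul g Q, e]
      exact g⁻¹.2
    have h1 := Set.ncard_add_ncard_compl ({P} : Set (Sylow 3 T))
    rw [Set.ncard_singleton, h22, ← this, ← Nat.card_coe_set_eq,
      Nat.card_congr (orbitEquivQuotientStabilizer (stabilizer T P) Q)] at h1
    have h2 := Subgroup.card_quotient_dvd_card (stabilizer (stabilizer T P) Q)
    rw [show Nat.card (stabilizer T P ⧸ stabilizer (stabilizer T P) Q) = 21 by omega,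
      Sylow.stabilizer_eq_normalizer P] at h2
    exact (by norm_num : (7 : ℕ) ∣ 21).trans h2
  have hH7 : 7 ∣ Nat.card H := by
    have h' : 7 ∣ 3 * Nat.card H * (C.subgroupOf M).index := by rw [← hcardC, hCcard]; exact h7M
    have hp : Nat.Prime 7 := by norm_num
    rcases hp.dvd_mul.mp h' with h | h
    · exact (hp.dvd_mul.mp h).resolve_left (by norm_num)
    · exact absurd (h.trans hidx) (by norm_num)
  have hHinv : ∀ h ∈ H, h * h = 1 →
      (Finset.univ.filter fun y => h y = y).card ≠ 1 := by
    intro h hh hsq hfix1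
    obtain ⟨g, rfl⟩ := MonoidHom.mem_range.mp hh
    have hg2 : ((g : T) * g) ∈ P := by
      have : g * g ∈ φ.ker := by rw [MonoidHom.mem_ker, map_mul, hsq]
      rwa [hker, Subgroup.mem_subgroupOf] at this
    set t : C := g ^ 3 with ht
    have hφt : φ t = φ g := by rw [ht, map_pow, pow_succ, pow_two, hsq, one_mul]
    have htt : (t : T) * t = 1 := by
      have : (((g : T) * g) ^ 3) = 1 :=
        hp3 _ hg2
      rw [← this, ht, Subgroup.coe_pow, (Commute.refl (g : T)).mul_pow]
    have hdvd := four_dvd_support h22 htt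
    have hcompl : (MulAction.toPermHom T (Sylow 3 T) (t : T)).supportᶜ.card = 4 := by
      obtain ⟨b, hb⟩ := Finset.card_eq_one.mp hfix1
      obtain ⟨Q, hQ, hbQ⟩ := b.2
      have hset : (MulAction.toPermHom T (Sylow 3 T) (t : T)).supportᶜ =
          insert P (orbit ↥(P : Subgroup T) Q).toFinite.toFinset := by
        ext R
        rw [Finset.mem_compl, Equiv.Perm.mem_support, not_not, Finset.mem_insert,
          Set.Finite.mem_toFinset]
        change (t : T) • R = R ↔ _
        constructor
        · intro hR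
          by_cases hRP : R = P
          · exact Or.inl hRP
          right
          have hbR : φ g (blk ⟨R, hRP⟩) = blk ⟨R, hRP⟩ := by
            rw [← hφt, hφapply]
            apply Subtype.ext
            rw [hval]
            change (t : T) • orbit ↥(P : Subgroup T) R = orbit ↥(P : Subgroup T) R
            rw [hmove t t.2, hR]
          have : blk ⟨R, hRP⟩ ∈ ({b} : Finset B) := by rw [← hb]; simp [hbR]
          rw [Finset.mem_singleton] at this
          rw [← hbQ, ← congrArg Subtype.val this]
          exact mem_orbit_self R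
        · rintro (rfl | hR)
          · exact hfix _ t.2
          have hRP : R ≠ P := fun e => (card_orbit_sylow h22 hQ).2 (e ▸ hR)
          have hbR : blk ⟨R, hRP⟩ = b := Subtype.ext ((orbit_eq_iff.mpr hR).trans hbQ.symm)
          have hgb : φ g b = b :=
            (Finset.mem_filter.mp (by rw [hb]; simp : b ∈ Finset.univ.filter fun y => φ g y = y)).2
          rw [← hbR, ← hφt, hφapply] at hgb
          obtain ⟨u, hu, huR⟩ := hblockfix t ⟨R, hRP⟩ hgb
          have hcu : Commute (t : T) u := (Subgroup.mem_centralizer_iff.mp t.2 u hu).symm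
          change u • R = (t : T) • R at huR
          have h2 : u * u = 1 := by
            refine hstab hRP _ (mul_mem hu hu) ?_
            rw [mul_smul, huR, ← mul_smul, ← hcu.eq, mul_smul, huR, ← mul_smul, htt, one_smul]
          have hu1 : u = 1 := by
            have h3' : u ^ 3 = 1 :=
              hp3 u hu
            rwa [pow_succ, pow_two, h2, one_mul] at h3'
          rw [← huR, hu1, one_smul]
      rw [hset, Finset.card_insert_of_notMem, ← Set.ncard_eq_toFinset_card _ (Set.toFinite _),
        ← Nat.card_coe_set_eq, horb hQ]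
      rw [Set.Finite.mem_toFinset]
      exact (card_orbit_sylow h22 hQ).2
    rw [Finset.card_compl, ← Nat.card_eq_fintype_card, h22] at hcompl
    omega
  have hHcard := card_eq_seven hB7 H hH3 hH7 hHinv
  rw [← hCcard, hcardC, hHcard] at hMmod
  have h := Nat.le_of_dvd (by norm_num) hidx
  interval_cases hi : (C.subgroupOf M).index
  · simp at hidx
  · exact absurd hMmod (by decide)
  · exact absurd hMmod (by decide)

/-- No simple group has 22 Sylow 3-subgroups. -/
theorem false_of_simple : False := by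
  obtain ⟨q, hq⟩ := exists_eleven h22
  have htr : ∀ P Q R : Sylow 3 T, Q ≠ P → R ≠ P → R ∈ orbit (stabilizer T P) Q := by
    intro P Q R hQ hR
    by_contra h
    exact false_of_rank_three h22 hQ hR h (card_orbits_le h22 hq P)
  obtain ⟨P⟩ : Nonempty (Sylow 3 T) := Sylow.nonempty
  by_cases h : Nat.card P = 3
  · exact false_of_card_three h22 h (htr P)
  · exact false_of_design h22 htr h

end CfsgLib.TwentyTwo
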