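import Mathlib

/-!
# Arithmetic for groups with 22 Sylow subgroups

`sum_sq_le_three` is the arithmetic of the five virtual characters induced from a self-centralising
subgroup of order 11 with normaliser of order 22.  `srg_constraint` is the integrality condition on
strongly regular graphs with 22 vertices.
-/

set_option autoImplicit false

namespace CfsgLib.TwentyTwo

open Finset Matrix

theorem sum_sq_le_three {ι : Type*} [Fintype ι] [DecidableEq ι] (e : ι) (d : ι → ℕ)
    (a : ι → ℕ) (c : Fin 5 → ι → ℤ) (hd : ∀ χ, 0 < d χ) (hlin : ∀ χ, d χ = 1 → χ = e)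
    (hde : d e = 1) (hce : ∀ i, c i e = 1)
    (hnorm : ∀ i j, ∑ χ, c i χ * c j χ = if i = j then 3 else 2)
    (hdeg : ∀ i, ∑ χ, c i χ * (d χ : ℤ) = 0)
    (hperm : ∀ i, ∑ χ, c i χ * (a χ : ℤ) = 0)
    (hae : a e = 1) (had : ∑ χ, a χ * d χ = 22)
    (hmod : ∀ χ, (11 : ℤ) ∣ (d χ : ℤ) + 2 * ∑ i, c i χ) :
    ∑ χ, a χ ^ 2 ≤ 3 := by
  classical
  set R : Finset ι := univ.erase e with hR
  have hsplit : ∀ f : ι → ℤ, ∑ χ, f χ = f e + ∑ χ ∈ R, f χ :=
    fun f => (add_sum_erase univ f (mem_univ e)).symm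
  have hRnorm : ∀ i j, ∑ χ ∈ R, c i χ * c j χ = if i = j then 2 else 1 := by
    intro i j
    have h := hnorm i j
    rw [hsplit, hce, hce] at h
    split_ifs at h ⊢ <;> omega
  have hone : ∀ i χ, χ ∈ R → c i χ = 0 ∨ c i χ = 1 ∨ c i χ = -1 := by
    intro i χ hχ
    have h := hRnorm i i
    rw [if_pos rfl] at h
    have h1 : c i χ * c i χ ≤ 2 :=
      h ▸ single_le_sum (f := fun x => c i x * c i x) (fun x _ => mul_self_nonneg _) hχ
    have : -1 ≤ c i χ ∧ c i χ ≤ 1 := ⟨by nlinarith, by nlinarith⟩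
    omega
  set S : Fin 5 → Finset ι := fun i => R.filter fun χ => c i χ ≠ 0 with hS
  have hmemS : ∀ i χ, χ ∈ S i ↔ χ ≠ e ∧ c i χ ≠ 0 := fun i χ => by simp [hS, hR]
  have hsq : ∀ i χ, χ ∈ S i → c i χ * c i χ = 1 := by
    intro i χ hχ
    obtain ⟨h1, h2⟩ := mem_filter.1 hχ
    rcases hone i χ h1 with h | h | h
    · exact absurd h h2
    · rw [h]; norm_num
    · rw [h]; norm_num
  have hScard : ∀ i, (S i).card = 2 := by
    intro i
    have h := hRnorm i i
    rw [if_pos rfl, ← sum_filter_of_ne (p := fun χ => c i χ ≠ 0)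
      (fun x _ hx hc => hx (by rw [hc, zero_mul]))] at h
    rw [← hS] at *
    rw [sum_congr rfl (g := fun _ => (1 : ℤ)) (fun χ hχ => hsq i χ hχ), sum_const, nsmul_one] at h
    exact_mod_cast h
  -- two supports meet in exactly one character, with equal signs
  have hmeet : ∀ i j, i ≠ j → ∃ x, S i ∩ S j = {x} ∧ c i x = c j x := by
    intro i j hij
    have h := hRnorm i j
    rw [if_neg hij, ← sum_filter_of_ne (p := fun χ => c i χ ≠ 0 ∧ c j χ ≠ 0)
      (fun x _ hx => ⟨fun hc => hx (by rw [hc, zero_mul]), fun hc => hx (by rw [hc, mul_zero])⟩),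
      filter_and] at h
    change ∑ χ ∈ S i ∩ S j, _ = _ at h
    have hle : (S i ∩ S j).card ≤ 2 := (hScard i) ▸ card_le_card inter_subset_left
    have hev : ∀ x ∈ S i ∩ S j, c i x * c j x = 1 ∨ c i x * c j x = -1 := by
      intro x hx
      obtain ⟨h1, h2⟩ := mem_inter.1 hx
      have e1 := hsq i x h1
      have e2 := hsq j x h2
      have : (c i x * c j x) * (c i x * c j x) = 1 := by linear_combination c i x * c i x * e2 + e1
      rcases mul_self_eq_one_iff.1 this with h' | h' <;> simp [h']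
    rcases Nat.lt_or_ge (S i ∩ S j).card 1 with h0 | h1
    · rw [card_eq_zero.1 (by omega : (S i ∩ S j).card = 0), sum_empty] at h
      omega
    rcases Nat.lt_or_ge (S i ∩ S j).card 2 with h2 | h2
    · obtain ⟨x, hx⟩ := card_eq_one.1 (by omega : (S i ∩ S j).card = 1)
      rw [hx, sum_singleton] at h
      refine ⟨x, hx, ?_⟩
      rcases Int.eq_one_or_neg_one_of_mul_eq_one h with h' | h' <;> rw [h'] at h ⊢ <;> omega
    · obtain ⟨x, y, hxy, hxy'⟩ := card_eq_two.1 (by omega : (S i ∩ S j).card = 2)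
      rw [hxy', sum_pair hxy] at h
      rcases hev x (by rw [hxy']; simp) with h3 | h3 <;>
        rcases hev y (by rw [hxy']; simp) with h4 | h4 <;> omega
  -- all supports have a common character
  obtain ⟨C, hC⟩ : ∃ C, ∀ i, C ∈ S i := by
    obtain ⟨u, v, huv, hS0⟩ := card_eq_two.1 (hScard 0)
    by_contra hno
    push Not at hno
    obtain ⟨j, hj⟩ := hno u
    obtain ⟨k, hk⟩ := hno v
    have hj0 : j ≠ 0 := fun h => hj (by rw [h, hS0]; simp)
    have hk0 : k ≠ 0 := fun h => hk (by rw [h, hS0]; simp)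
    have htouch : ∀ l, l ≠ 0 → u ∈ S l ∧ v ∉ S l ∨ v ∈ S l ∧ u ∉ S l := by
      intro l hl
      obtain ⟨x, hx, -⟩ := hmeet 0 l hl.symm
      have hm : ∀ z, z ∈ S 0 → z ∈ S l → z = x := fun z h1 h2 =>
        mem_singleton.1 (hx ▸ mem_inter.2 ⟨h1, h2⟩)
      have hx' : x ∈ S 0 ∩ S l := by rw [hx]; simp
      obtain ⟨hx0, hxl⟩ := mem_inter.1 hx'
      rw [hS0, mem_insert, mem_singleton] at hx0
      rcases hx0 with rfl | rfl
      · exact Or.inl ⟨hxl, fun h => huv (hm v (by rw [hS0]; simp) h).symm⟩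
      · exact Or.inr ⟨hxl, fun h => huv (hm u (by rw [hS0]; simp) h)⟩
    have hvj : v ∈ S j := by rcases htouch j hj0 with ⟨h, -⟩ | ⟨h, -⟩; exacts [absurd h hj, h]
    have huk : u ∈ S k := by rcases htouch k hk0 with ⟨h, -⟩ | ⟨h, -⟩; exacts [h, absurd h hk]
    have hjk : j ≠ k := fun h => hj (h ▸ huk)
    obtain ⟨x, hx, -⟩ := hmeet j k hjk
    obtain ⟨hxj, hxk⟩ := mem_inter.1 (show x ∈ S j ∩ S k by rw [hx]; simp)
    have hxu : x ≠ u := fun h => hj (h ▸ hxj)
    have hxv : x ≠ v := fun h => hk (h ▸ hxk)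
    have pair : ∀ l (p q : ι), p ≠ q → p ∈ S l → q ∈ S l → S l = {p, q} := by
      intro l p q hpq hp hq
      refine (eq_of_subset_of_card_le ?_ (by rw [hScard, card_pair hpq])).symm
      intro z hz
      rw [mem_insert, mem_singleton] at hz
      rcases hz with rfl | rfl <;> assumption
    have hSj := pair j v x hxv.symm hvj hxj
    have hSk := pair k u x hxu.symm huk hxk
    have hall : ∀ l, l = 0 ∨ l = j ∨ l = k := by
      intro l
      by_cases hl0 : l = 0
      · exact Or.inl hl0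
      right
      by_contra hl
      push Not at hl
      obtain ⟨y, hy, -⟩ := hmeet j l hl.1.symm
      obtain ⟨z, hz, -⟩ := hmeet k l hl.2.symm
      have hxl : x ∈ S l := by
        rcases htouch l hl0 with ⟨-, hv⟩ | ⟨-, hu⟩
        · obtain ⟨h1, h2⟩ := mem_inter.1 (show y ∈ S j ∩ S l by rw [hy]; simp)
          rw [hSj, mem_insert, mem_singleton] at h1
          rcases h1 with rfl | rfl
          exacts [absurd h2 hv, h2]
        · obtain ⟨h1, h2⟩ := mem_inter.1 (show z ∈ S k ∩ S l by rw [hz]; simp)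
          rw [hSk, mem_insert, mem_singleton] at h1
          rcases h1 with rfl | rfl
          exacts [absurd h2 hu, h2]
      rcases htouch l hl0 with ⟨hu, -⟩ | ⟨hv, -⟩
      · obtain ⟨w, hw, -⟩ := hmeet l k hl.2
        have h1 : u = w := mem_singleton.1 (hw ▸ mem_inter.2 ⟨hu, huk⟩)
        have h2 : x = w := mem_singleton.1 (hw ▸ mem_inter.2 ⟨hxl, hxk⟩)
        exact hxu (h2.trans h1.symm)
      · obtain ⟨w, hw, -⟩ := hmeet l j hl.1
        have h1 : v = w := mem_singleton.1 (hw ▸ mem_inter.2 ⟨hv, hvj⟩)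
        have h2 : x = w := mem_singleton.1 (hw ▸ mem_inter.2 ⟨hxl, hxj⟩)
        exact hxv (h2.trans h1.symm)
    have h5 : (univ : Finset (Fin 5)) ⊆ {0, j, k} := fun l _ => by
      rcases hall l with h | h | h <;> simp [h]
    have h5' := (card_le_card h5).trans card_le_three
    simp at h5'
  have hX : ∀ i, ∃ X, X ≠ C ∧ S i = {C, X} := by
    intro i
    obtain ⟨u, v, huv, h⟩ := card_eq_two.1 (hScard i)
    have := hC i
    rw [h, mem_insert, mem_singleton] at this
    rcases this with rfl | rfl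
    · exact ⟨v, huv.symm, h⟩
    · exact ⟨u, huv, by rw [h, pair_comm]⟩
  choose X hXC hSX using hX
  have hXmem : ∀ i, X i ∈ S i := fun i => by rw [hSX]; simp
  have hXne : ∀ i j, i ≠ j → X i ∉ S j := by
    intro i j hij hmem
    obtain ⟨w, hw, -⟩ := hmeet i j hij
    exact hXC i ((mem_singleton.1 (hw ▸ mem_inter.2 ⟨hXmem i, hmem⟩)).trans
      (mem_singleton.1 (hw ▸ mem_inter.2 ⟨hC i, hC j⟩)).symm)
  have hXinj : Function.Injective X := fun i j h => by
    by_contra hij
    exact hXne i j hij (h ▸ hXmem j)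
  set ε := c 0 C with hε
  have hCε : ∀ i, c i C = ε := by
    intro i
    by_cases hi : i = 0
    · rw [hi]
    obtain ⟨w, hw, hc⟩ := hmeet i 0 hi
    have : C = w := mem_singleton.1 (hw ▸ mem_inter.2 ⟨hC i, hC 0⟩)
    rw [this, hc, hε, this]
  have hCe : C ≠ e := ((hmemS 0 C).1 (hC 0)).1
  have hXe : ∀ i, X i ≠ e := fun i => ((hmemS i _).1 (hXmem i)).1
  have hεpm : ε = 1 ∨ ε = -1 := by
    rcases hone 0 C (by simp [hR, hCe]) with h | h | h
    · exact absurd h ((hmemS 0 C).1 (hC 0)).2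
    · exact Or.inl h
    · exact Or.inr h
  have hval : ∀ (i : Fin 5) (f : ι → ℤ),
      ∑ χ, c i χ * f χ = f e + ε * f C + c i (X i) * f (X i) := by
    intro i f
    rw [hsplit, hce, one_mul, ← sum_filter_of_ne (p := fun χ => c i χ ≠ 0)
      (fun x _ hx hc => hx (by rw [hc, zero_mul]))]
    change f e + ∑ χ ∈ S i, c i χ * f χ = _
    rw [hSX, sum_pair (hXC i).symm, hCε, add_assoc]
  have hczero : ∀ i χ, χ ≠ e → χ ≠ C → χ ≠ X i → c i χ = 0 := by
    intro i χ h1 h2 h3
    by_contra hc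
    have := (hmemS i χ).2 ⟨h1, hc⟩
    rw [hSX] at this
    simp [h2, h3] at this
  have hmodC : (11 : ℤ) ∣ (d C : ℤ) + 10 * ε := by
    have := hmod C
    simp only [hCε, sum_const, card_univ, Fintype.card_fin, nsmul_eq_mul] at this
    convert this using 2
    ring
  have hmodX : ∀ i, (11 : ℤ) ∣ (d (X i) : ℤ) + 2 * c i (X i) := by
    intro i
    have := hmod (X i)
    rwa [sum_eq_single i (fun j _ hj => ?_) (by simp)] at this
    by_contra hc
    exact hXne i j hj.symm ((hmemS j _).2 ⟨hXe i, hc⟩)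
  have hXpm : ∀ i, c i (X i) = 1 ∨ c i (X i) = -1 := fun i =>
    (hone i _ (by simp [hR, hXe i])).resolve_left ((hmemS i _).1 (hXmem i)).2
  have hD : ∀ i, (1 : ℤ) + ε * d C + c i (X i) * d (X i) = 0 := fun i => by
    have := hdeg i
    rwa [hval i fun χ => (d χ : ℤ), hde, Nat.cast_one] at this
  have hA : ∀ i, (1 : ℤ) + ε * a C + c i (X i) * a (X i) = 0 := fun i => by
    have := hperm i
    rwa [hval i fun χ => (a χ : ℤ), hae, Nat.cast_one] at this
  have hsame : ∀ i, d (X i) = d (X 0) ∧ a (X i) = a (X 0) := by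
    intro i
    have h1 := hD i
    have h2 := hD 0
    have h3 := hA i
    have h4 := hA 0
    have h5 := hd (X i)
    have h6 := hd (X 0)
    rcases hXpm i with h | h <;> rw [h] at h1 h3 <;> rcases hXpm 0 with h' | h' <;>
      rw [h'] at h2 h4 <;> constructor <;> omega
  set T : Finset ι := insert e (insert C (univ.image X)) with hT
  have hCX : C ∉ univ.image X := by
    simp only [mem_image, mem_univ, true_and, not_exists]
    exact fun i => hXC i
  have heT : e ∉ insert C (univ.image X) := by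
    simp only [mem_insert, mem_image, mem_univ, true_and, not_or, not_exists]
    exact ⟨hCe.symm, hXe⟩
  have hsumT : ∀ f : ι → ℕ, ∑ χ, f χ = f e + f C + ∑ i, f (X i) + ∑ χ ∈ Tᶜ, f χ := by
    intro f
    rw [← sum_add_sum_compl T, hT, sum_insert heT, sum_insert hCX,
      sum_image (fun i _ j _ h => hXinj h)]
    ring
  have hrest : ∀ χ ∈ Tᶜ, (11 : ℤ) ∣ d χ := by
    intro χ hχ
    simp only [hT, mem_compl, mem_insert, mem_image, mem_univ, true_and, not_or, not_exists] at hχ
    have := hmod χ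
    rwa [sum_eq_zero (fun i _ => hczero i χ hχ.1 hχ.2.1 (Ne.symm (hχ.2.2 i))), mul_zero,
      add_zero] at this
  have hX0 : a (X 0) = 0 := by
    by_contra hb
    have h22 := had
    rw [hsumT fun χ => a χ * d χ, sum_congr rfl (g := fun _ => a (X 0) * d (X 0))
      (fun i _ => by rw [(hsame i).1, (hsame i).2]), sum_const, card_univ, Fintype.card_fin,
      smul_eq_mul, hae, hde] at h22
    have hb1 : d (X 0) ≤ a (X 0) * d (X 0) := Nat.le_mul_of_pos_left _ (by omega)
    have hdX : d (X 0) ≤ 4 := by omega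
    have hd0 := hd (X 0)
    have h2 := hD 0
    have h3 := hmodX 0
    have hC0 := hd C
    have hC1 : d C ≠ 1 := fun h => hCe (hlin C h)
    rcases hXpm 0 with h | h <;> rw [h] at h2 h3 <;> rcases hεpm with h' | h' <;>
      rw [h'] at h2 hmodC <;> omega
  have hA0 := hA 0
  rw [hX0, Nat.cast_zero, mul_zero, add_zero] at hA0
  have haC : a C = 1 ∧ ε = -1 := by
    rcases hεpm with h' | h' <;> rw [h'] at hA0 ⊢ <;> omega
  obtain ⟨haC, hε1⟩ := haC
  have h22 := had
  rw [hsumT fun χ => a χ * d χ, sum_eq_zero (s := univ) (fun i _ => by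
    rw [(hsame i).2, hX0, zero_mul]), hae, haC, hde] at h22
  have hdC : 10 ≤ d C := by
    rw [hε1] at hmodC
    have := hd C
    omega
  have hTle : ∑ χ ∈ Tᶜ, a χ * 11 ≤ ∑ χ ∈ Tᶜ, a χ * d χ := by
    refine sum_le_sum fun χ hχ => Nat.mul_le_mul_left _ ?_
    have := hrest χ hχ
    have := hd χ
    omega
  rw [← sum_mul] at hTle
  have h1 : ∑ χ ∈ Tᶜ, a χ ≤ 1 := by omega
  rw [hsumT fun χ => a χ ^ 2, sum_eq_zero (s := univ) (fun i _ => by
    rw [(hsame i).2, hX0]; rfl), hae, haC]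
  have h2 : ∑ χ ∈ Tᶜ, a χ ^ 2 ≤ ∑ χ ∈ Tᶜ, a χ := by
    refine sum_le_sum fun χ hχ => ?_
    have := (single_le_sum (fun x _ => Nat.zero_le (a x)) hχ).trans h1
    interval_cases (a χ) <;> norm_num
  simp only [one_pow] at h2 ⊢
  omega

/-- Integrality of eigenvalue multiplicities for a strongly regular graph on 22 vertices. -/
theorem srg_constraint {X : Type*} [Fintype X] [DecidableEq X] (h22 : Fintype.card X = 22)
    (A : Matrix X X ℝ) (d l m : ℤ)
    (hdiag : ∀ x, A x x = 0) (hrow : ∀ x, ∑ y, A x y = d) (hcol : ∀ y, ∑ x, A x y = d)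
    (hsq : A * A = ((d - m : ℤ) : ℝ) • (1 : Matrix X X ℝ) + ((l - m : ℤ) : ℝ) • A
      + ((m : ℤ) : ℝ) • Matrix.of (fun _ _ => (1 : ℝ)))
    (hcount : 21 * m = d ^ 2 - l * d + m * d - d)
    (hΔ : 0 < (l - m) ^ 2 + 4 * (d - m)) :
    ∃ n : ℕ, n ≤ 22 ∧
      (2 * (n : ℤ) - 21) ^ 2 * ((l - m) ^ 2 + 4 * (d - m)) = (2 * d + 21 * (l - m)) ^ 2 := by
  set Δ : ℝ := (((l - m) ^ 2 + 4 * (d - m) : ℤ) : ℝ) with hΔdef
  set D : ℝ := Real.sqrt Δ with hD
  have hΔpos : 0 < Δ := by rw [hΔdef]; exact_mod_cast hΔ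
  have hDpos : 0 < D := Real.sqrt_pos.2 hΔpos
  have hDD : D * D = Δ := Real.mul_self_sqrt hΔpos.le
  set s : ℝ := (((l - m : ℤ) : ℝ) - D) / 2 with hs
  set J : Matrix X X ℝ := Matrix.of (fun _ _ => (1 : ℝ)) with hJ
  set k : ℝ := ((d : ℝ) - s) / 22 with hk
  set B : Matrix X X ℝ := A - s • (1 : Matrix X X ℝ) - k • J with hB
  have hAJ : A * J = (d : ℝ) • J := by
    ext x y
    simp [hJ, Matrix.mul_apply, hrow]
  have hJA : J * A = (d : ℝ) • J := by
    ext x y
    simp [hJ, Matrix.mul_apply, hcol]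
  have hJJ : J * J = (22 : ℝ) • J := by
    ext x y
    simp [hJ, Matrix.mul_apply, h22]
  have hBB : B * B = D • B := by
    rw [hB]
    simp only [sub_mul, mul_sub, smul_mul_assoc, mul_smul_comm, one_mul, mul_one, hsq, hAJ, hJA, hJJ]
    simp only [smul_smul, smul_sub, smul_add]
    match_scalars
    all_goals
      have hc : (21 : ℝ) * m = (d : ℝ) ^ 2 - l * d + m * d - d := by exact_mod_cast hcount
      have hD2 : D ^ 2 = ((l : ℝ) - m) ^ 2 + 4 * (d - m) := by
        rw [sq, hDD, hΔdef]; push_cast; ring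
      simp only [hs, hk]
      push_cast
      field_simp
      ring_nf
      try rw [hD2]
      try ring_nf
      try linarith
  set E : Matrix X X ℝ := D⁻¹ • B with hE
  have hEE : E * E = E := by
    rw [hE, smul_mul_assoc, mul_smul_comm, hBB, smul_smul, smul_smul]
    congr 1
    field_simp
  have hproj : LinearMap.IsProj (LinearMap.range (Matrix.toLin' E)) (Matrix.toLin' E) := by
    refine ⟨fun x => LinearMap.mem_range_self _ x, ?_⟩
    rintro _ ⟨y, rfl⟩
    rw [← LinearMap.comp_apply, ← Matrix.toLin'_mul, hEE]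
  have htr := hproj.trace
  rw [Matrix.trace_toLin'_eq] at htr
  set n := Module.finrank ℝ (LinearMap.range (Matrix.toLin' E)) with hn
  refine ⟨n, ?_, ?_⟩
  · refine (Submodule.finrank_le _).trans ?_
    rw [Module.finrank_fintype_fun_eq_card, h22]
  · rw [hE, Matrix.trace_smul, hB, Matrix.trace_sub, Matrix.trace_sub, Matrix.trace_smul,
      Matrix.trace_smul, Matrix.trace_one, h22] at htr
    have hA0 : Matrix.trace A = 0 := sum_eq_zero fun x _ => hdiag x
    have hJ0 : Matrix.trace J = 22 := by simp [hJ, Matrix.trace, h22]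
    rw [hA0, hJ0, smul_eq_mul, smul_eq_mul, smul_eq_mul, hk, hs] at htr
    field_simp at htr
    push_cast at htr
    have h2 : (2 * (n : ℝ) - 21) * D = -(2 * (d : ℝ) + 21 * ((l : ℝ) - m)) := by
      nlinarith
    have h3 : (2 * (n : ℝ) - 21) ^ 2 * Δ = (2 * (d : ℝ) + 21 * ((l : ℝ) - m)) ^ 2 := by
      rw [← hDD]
      linear_combination ((2 * (n : ℝ) - 21) * D - (2 * (d : ℝ) + 21 * ((l : ℝ) - m))) * h2
    rw [hΔdef] at h3
    exact_mod_cast h3

end CfsgLib.TwentyTwo
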