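import Cfsg.Agent.TwentyTwo.Setting
import Cfsg.Agent.TwentyTwo.Arith
import Cfsg.Agent.Characters.Induction
import Cfsg.Agent.Characters.Generalized
import Cfsg.Agent.Characters.Linear

/-!
# A simple group with 22 Sylow 3-subgroups has rank at most three on them
-/

set_option autoImplicit false
set_option linter.unusedSectionVars false

namespace CfsgLib.TwentyTwo

open Cfsg CfsgLib.Characters MulAction
open scoped ComplexConjugate

/-- A primitive 11th root of unity. -/
noncomputable def zeta : ℂ := Complex.exp (2 * Real.pi * Complex.I / (11 : ℕ))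

theorem zeta_primitive : IsPrimitiveRoot zeta 11 := Complex.isPrimitiveRoot_exp 11 (by norm_num)

theorem zeta_pow_eleven : zeta ^ 11 = 1 := zeta_primitive.pow_eq_one

theorem zeta_pow_mod (n : ℕ) : zeta ^ (n % 11) = zeta ^ n := by
  conv_rhs => rw [← Nat.mod_add_div n 11, pow_add, pow_mul, zeta_pow_eleven, one_pow, mul_one]

theorem conj_zeta (n : ℕ) : conj (zeta ^ n) = zeta ^ (10 * n) := by
  have h11 : (zeta ^ n) ^ 11 = 1 := by rw [← pow_mul, mul_comm, pow_mul, zeta_pow_eleven, one_pow]
  rw [← Complex.inv_eq_conj (Complex.norm_eq_one_of_pow_eq_one h11 (by norm_num))]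
  refine inv_eq_of_mul_eq_one_right ?_
  rw [← pow_add, show n + 10 * n = n * 11 by ring, pow_mul, h11]

theorem geom_zeta (n : ℕ) :
    ∑ k : Fin 11, zeta ^ (n * (k : ℕ)) = if 11 ∣ n then 11 else 0 := by
  rw [Fin.sum_univ_eq_sum_range (fun k => zeta ^ (n * k)) 11]
  simp only [pow_mul]
  split_ifs with h
  · rw [(zeta_primitive.pow_eq_one_iff_dvd n).mpr h]
    simp
  · exact (zeta_primitive.pow_of_coprime n
      ((by norm_num : Nat.Prime 11).coprime_iff_not_dvd.mpr h).symm).geom_sum_eq_zero (by norm_num)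

variable {T : Type*} [Group T] [Finite T] [IsSimpleGroup T]
  (h22 : Nat.card (Sylow 3 T) = 22)

include h22

variable {q : T} (hq : orderOf q = 11)
include hq

theorem conj_mem_zpowers_cases {t : T} (ht : t * q * t⁻¹ = q⁻¹) (htQ : t ∉ Subgroup.zpowers q)
    {x : T} {k : Fin 11} (hk : k ≠ 0)
    (hx : x⁻¹ * q ^ (k : ℕ) * x ∈ Subgroup.zpowers q) :
    x ∈ Subgroup.zpowers q ∨ t⁻¹ * x ∈ Subgroup.zpowers q := by
  set Z := Subgroup.zpowers q with hZ
  set N := Subgroup.normalizer (Z : Set T) with hN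
  have hord : ∀ z ∈ Z, z ≠ 1 → Subgroup.zpowers z = Z := by
    intro z hz hz1
    refine Subgroup.eq_of_le_of_card_ge (Subgroup.zpowers_le.mpr hz) ?_
    have hd := Subgroup.orderOf_dvd_natCard Z hz
    rw [hZ, Nat.card_zpowers, hq] at hd
    rw [hZ, Nat.card_zpowers, Nat.card_zpowers, hq]
    rcases (Nat.dvd_prime (by norm_num)).mp hd with e | e
    · exact absurd (orderOf_eq_one_iff.mp e) hz1
    · omega
  have hk1 : q ^ (k : ℕ) ≠ 1 := by
    intro h
    have := orderOf_dvd_of_pow_eq_one h
    rw [hq] at this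
    exact hk (Fin.ext (Nat.eq_zero_of_dvd_of_lt this k.2))
  have hgen := hord _ (Subgroup.pow_mem _ (Subgroup.mem_zpowers q) _) hk1
  have hxN : x⁻¹ ∈ N := by
    refine Subgroup.mem_normalizer_fintype fun y hy => ?_
    rw [SetLike.mem_coe, ← hgen] at hy
    obtain ⟨i, rfl⟩ := Subgroup.mem_zpowers_iff.mp hy
    rw [inv_inv, SetLike.mem_coe]
    have : x⁻¹ * (q ^ (k : ℕ)) ^ i * x = (x⁻¹ * q ^ (k : ℕ) * x) ^ i := by
      have := conj_zpow (i := i) (a := x⁻¹) (b := q ^ (k : ℕ))
      rwa [inv_inv, eq_comm] at this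
    rw [this]
    exact Subgroup.zpow_mem _ hx i
  rw [← inv_mem_iff, inv_inv] at hxN
  have htN : t ∈ N := by
    refine Subgroup.mem_normalizer_fintype fun y hy => ?_
    obtain ⟨i, rfl⟩ := Subgroup.mem_zpowers_iff.mp hy
    rw [← conj_zpow, ht, SetLike.mem_coe]
    exact Subgroup.zpow_mem _ (inv_mem (Subgroup.mem_zpowers q)) i
  have hidx : (Z.subgroupOf N).index = 2 := by
    have h := Subgroup.card_mul_index (Z.subgroupOf N)
    rw [Nat.card_congr (Subgroup.subgroupOfEquivOfLe (H := Z) (K := N) Subgroup.le_normalizer).toEquiv,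
      show Nat.card Z = 11 from (Nat.card_zpowers q).trans hq,
      show Nat.card N = 22 from (normalizer_facts h22 hq).1] at h
    omega
  by_cases hxZ : x ∈ Z
  · exact Or.inl hxZ
  refine Or.inr ?_
  have h := Subgroup.mul_mem_iff_of_index_two hidx (a := (⟨t, htN⟩ : N)⁻¹) (b := ⟨x, hxN⟩)
  rw [Subgroup.mem_subgroupOf, Subgroup.mem_subgroupOf, Subgroup.mem_subgroupOf] at h
  exact h.mpr (iff_of_false (fun h' => htQ (inv_mem_iff.mp h')) hxZ)

/-- The stabiliser of a point has at most three orbits. -/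
theorem card_orbits_le (P : Sylow 3 T) :
    Nat.card (orbitRel.Quotient (stabilizer T P) (Sylow 3 T)) ≤ 3 := by
  classical
  let _ := Fintype.ofFinite T
  let _ := Fintype.ofFinite (Sylow 3 T)
  set Q := Subgroup.zpowers q with hQ
  let _ := Fintype.ofFinite Q
  set M := stabilizer T P with hM
  let _ := Fintype.ofFinite M
  obtain ⟨t, ht, htQ⟩ := exists_inverting h22 hq
  let e : Fin 11 ≃ Q := (finCongr hq.symm).trans (finEquivZPowers (isOfFinOrder_of_finite q))
  have he : ∀ k : Fin 11, (e k : T) = q ^ (k : ℕ) := fun k => rfl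
  let f : Fin 5 → Q → ℂ := fun a x => 1 - zeta ^ (((a : ℕ) + 1) * (e.symm x : ℕ))
  have hfe : ∀ a k, f a (e k) = 1 - zeta ^ (((a : ℕ) + 1) * (k : ℕ)) := fun a k => by
    simp [f]
  have hfn : ∀ a (n : ℕ) (h : q ^ n ∈ Q), f a ⟨q ^ n, h⟩ = 1 - zeta ^ (((a : ℕ) + 1) * n) := by
    intro a n h
    have : (⟨q ^ n, h⟩ : Q) = e ⟨n % 11, Nat.mod_lt _ (by norm_num)⟩ := Subtype.ext (by
      rw [he]; exact (hq ▸ pow_mod_orderOf q n).symm)
    rw [this, hfe]
    congr 1
    change zeta ^ (((a : ℕ) + 1) * (n % 11)) = _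
    rw [← zeta_pow_mod (((a : ℕ) + 1) * n), Nat.mul_mod, ← zeta_pow_mod (((a : ℕ) + 1) * (n % 11)),
      Nat.mul_mod ((a : ℕ) + 1) (n % 11), Nat.mod_mod]
  have hsumQ : ∀ F G : Q → ℂ, classInner F G =
      (11 : ℂ)⁻¹ * ∑ k : Fin 11, F (e k) * conj (G (e k)) := by
    intro F G
    rw [classInner, ← e.sum_comp, show Nat.card Q = 11 from (Nat.card_zpowers q).trans hq]
    norm_num
  have hfgen : ∀ a, IsGeneralizedCharacter Q (f a) := by
    intro a
    let φ : Q →* ℂˣ := MonoidHom.toHomUnits
      { toFun := fun x => zeta ^ (((a : ℕ) + 1) * (e.symm x : ℕ))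
        map_one' := by
          have h1 : f a 1 = 1 - zeta ^ (((a : ℕ) + 1) * 0) := by
            rw [← hfn a 0 (by simp)]
            exact congrArg (f a) (Subtype.ext (pow_zero q).symm)
          simp only [f, mul_zero, pow_zero, sub_right_inj] at h1
          exact h1
        map_mul' := fun x y => by
          obtain ⟨i, rfl⟩ := e.surjective x
          obtain ⟨j, rfl⟩ := e.surjective y
          have hm : q ^ ((i : ℕ) + j) ∈ Q := Subgroup.pow_mem _ (Subgroup.mem_zpowers q) _
          have h1 := hfn a ((i : ℕ) + j) hm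
          rw [show (⟨q ^ ((i : ℕ) + j), hm⟩ : Q) = e i * e j from
            Subtype.ext (by simp [he, pow_add]), mul_add, pow_add] at h1
          simp only [f, sub_right_inj] at h1
          rw [h1, Equiv.symm_apply_apply, Equiv.symm_apply_apply] }
    have : f a = (fun _ => (1 : ℂ)) - fun x => (φ x : ℂ) := rfl
    rw [this]
    exact isGen_sub isGen_one (isGen_of_isIrr (isIrr_linChar φ))
  let A : Fin 5 → T → ℂ := fun a => indFun Q (f a)
  have hAgen : ∀ a, IsGeneralizedCharacter T (A a) := fun a => isGen_indFun Q (hfgen a)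
  have hAcl : ∀ a, IsClassFunction T (A a) := fun a => isClassFunction_indFun Q _
  have hf0 : ∀ a, f a (e 0) = 0 := fun a => by simp [hfe]
  have hA1 : ∀ a, A a 1 = 0 := by
    intro a
    have : (e 0 : Q) = 1 := Subtype.ext (by simp [he])
    simp only [A]
    rw [indFun_one, ← this, hf0, mul_zero]
  have hAk : ∀ a (k : Fin 11), A a (e k : T) =
      2 - zeta ^ (((a : ℕ) + 1) * (k : ℕ)) - zeta ^ (10 * (((a : ℕ) + 1) * (k : ℕ))) := by
    intro a k
    rw [he]
    by_cases hk : k = 0
    · subst hk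
      rw [Fin.val_zero, pow_zero, hA1, mul_zero, mul_zero, pow_zero]
      norm_num
    have hval : ∀ x : T, extendByZero Q (f a) (x⁻¹ * q ^ (k : ℕ) * x) =
        (if x ∈ Q then f a (e k) else 0) +
          (if t⁻¹ * x ∈ Q then 1 - zeta ^ (10 * (((a : ℕ) + 1) * (k : ℕ))) else 0) := by
      intro x
      have hdisj : x ∈ Q → t⁻¹ * x ∉ Q := fun h1 h2 =>
        htQ (inv_mem_iff.mp ((Subgroup.mul_mem_cancel_right _ h1).mp h2))
      by_cases hx : x⁻¹ * q ^ (k : ℕ) * x ∈ Q
      · rcases conj_mem_zpowers_cases h22 hq ht htQ hk hx with h | h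
        · rw [if_pos h, if_neg (hdisj h), add_zero, extendByZero_of_mem Q _ hx]
          congr 1
          apply Subtype.ext
          obtain ⟨i, rfl⟩ := Subgroup.mem_zpowers_iff.mp h
          rw [he]
          change (q ^ i)⁻¹ * q ^ (k : ℕ) * q ^ i = _
          group
        · rw [if_pos h, if_neg (fun h' => hdisj h' h), zero_add, extendByZero_of_mem Q _ hx]
          obtain ⟨i, hi⟩ := Subgroup.mem_zpowers_iff.mp h
          have hxt : x = t * q ^ i := by rw [hi, mul_inv_cancel_left]
          have htk : t⁻¹ * q ^ (k : ℕ) * t = q ^ (10 * (k : ℕ)) := by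
            have h2 : t⁻¹ * q * t = q⁻¹ := by
              have : q = t * q⁻¹ * t⁻¹ := by rw [← conj_inv, ht, inv_inv]
              conv_lhs => rw [this]
              group
            have h3 : t⁻¹ * q ^ (k : ℕ) * t = (q⁻¹) ^ (k : ℕ) := by
              rw [← h2]
              have := conj_pow (i := (k : ℕ)) (a := t⁻¹) (b := q)
              rw [inv_inv] at this
              exact this.symm
            rw [h3, pow_mul]
            congr 1
            refine inv_eq_of_mul_eq_one_right ?_
            rw [← pow_succ', show (10 + 1 : ℕ) = orderOf q from hq.symm, pow_orderOf_eq_one]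
          have hval : x⁻¹ * q ^ (k : ℕ) * x = q ^ (10 * (k : ℕ)) := by
            rw [hxt, show (t * q ^ i)⁻¹ * q ^ (k : ℕ) * (t * q ^ i) =
              (q ^ i)⁻¹ * (t⁻¹ * q ^ (k : ℕ) * t) * q ^ i by group, htk]
            group
          have hm : q ^ (10 * (k : ℕ)) ∈ Q := hval ▸ hx
          rw [show (⟨x⁻¹ * q ^ (k : ℕ) * x, hx⟩ : Q) = ⟨q ^ (10 * (k : ℕ)), hm⟩ from
            Subtype.ext hval, hfn]
          congr 2
          ring
      · rw [extendByZero_of_not_mem Q _ hx, if_neg, if_neg, add_zero]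
        · intro h
          obtain ⟨i, hi⟩ := Subgroup.mem_zpowers_iff.mp h
          apply hx
          rw [show x = t * q ^ i by rw [hi, mul_inv_cancel_left],
            show (t * q ^ i)⁻¹ * q ^ (k : ℕ) * (t * q ^ i) =
              (q ^ i)⁻¹ * (t⁻¹ * q ^ (k : ℕ) * t) * q ^ i by group]
          have h2 : t⁻¹ * q * t = q⁻¹ := by
            have : q = t * q⁻¹ * t⁻¹ := by rw [← conj_inv, ht, inv_inv]
            conv_lhs => rw [this]
            group
          have h3 := conj_pow (i := (k : ℕ)) (a := t⁻¹) (b := q)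
          rw [inv_inv, h2] at h3
          rw [← h3]
          exact mul_mem (mul_mem (inv_mem (Subgroup.zpow_mem_zpowers q i))
            (pow_mem (inv_mem (Subgroup.mem_zpowers q)) _)) (Subgroup.zpow_mem_zpowers q i)
        · intro h
          exact hx (mul_mem (mul_mem (inv_mem h) (pow_mem (Subgroup.mem_zpowers q) _)) h)
    have hc1 : (Finset.univ.filter fun x : T => x ∈ Q).card = 11 := by
      rw [← Fintype.card_subtype, ← Nat.card_eq_fintype_card]
      exact (Nat.card_zpowers q).trans hq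
    have hc2 : (Finset.univ.filter fun x : T => t⁻¹ * x ∈ Q).card = 11 := by
      rw [← hc1]
      refine Finset.card_bij' (fun x _ => t⁻¹ * x) (fun x _ => t * x) ?_ ?_ ?_ ?_ <;>
        simp
    simp only [A, indFun]
    rw [Finset.sum_congr rfl fun x _ => hval x, Finset.sum_add_distrib, ← Finset.sum_filter,
      ← Finset.sum_filter, Finset.sum_const, Finset.sum_const, hc1, hc2, hfe, hQ, Nat.card_zpowers,
      hq, nsmul_eq_mul, nsmul_eq_mul]
    push_cast
    ring
  have hinner : ∀ a b, classInner (A a) (A b) = ((if a = b then (3 : ℤ) else 2 : ℤ) : ℂ) := by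
    intro a b
    have hterm : ∀ k : Fin 11, f a (e k) * conj (A b (e k : T)) = 2
        - 2 * zeta ^ (((a : ℕ) + 1) * (k : ℕ))
        - zeta ^ (((b : ℕ) + 1) * (k : ℕ)) - zeta ^ ((10 * ((b : ℕ) + 1)) * (k : ℕ))
        + zeta ^ ((((a : ℕ) + 1) + ((b : ℕ) + 1)) * (k : ℕ))
        + zeta ^ ((((a : ℕ) + 1) + 10 * ((b : ℕ) + 1)) * (k : ℕ)) := by
      intro k
      rw [hfe, hAk]
      simp only [map_sub, map_ofNat, conj_zeta]
      rw [← zeta_pow_mod (10 * (10 * (((b : ℕ) + 1) * (k : ℕ)))),
        show 10 * (10 * (((b : ℕ) + 1) * (k : ℕ))) % 11 = ((b : ℕ) + 1) * (k : ℕ) % 11 by omega,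
        zeta_pow_mod]
      ring
    simp only [A]
    rw [classInner_indFun Q (f a) (hAcl b), hsumQ]
    change (11 : ℂ)⁻¹ * ∑ k : Fin 11, f a (e k) * conj (A b (e k : T)) = _
    simp only [hterm, Finset.sum_add_distrib, Finset.sum_sub_distrib, ← Finset.mul_sum, geom_zeta,
      Finset.sum_const, Finset.card_univ, Fintype.card_fin, nsmul_eq_mul]
    have ha := a.2
    have hb := b.2
    rw [if_neg (show ¬ 11 ∣ (a : ℕ) + 1 by omega), if_neg (show ¬ 11 ∣ (b : ℕ) + 1 by omega),
      if_neg (show ¬ 11 ∣ 10 * ((b : ℕ) + 1) by omega),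
      if_neg (show ¬ 11 ∣ ((a : ℕ) + 1) + ((b : ℕ) + 1) by omega)]
    by_cases hab : a = b
    · subst hab
      rw [if_pos (show 11 ∣ ((a : ℕ) + 1) + 10 * ((a : ℕ) + 1) by omega), if_pos rfl]
      norm_num
    · rw [if_neg (show ¬ 11 ∣ ((a : ℕ) + 1) + 10 * ((b : ℕ) + 1) by
        have : (a : ℕ) ≠ b := fun h => hab (Fin.ext h)
        omega), if_neg hab]
      norm_num
  -- the permutation character
  set π : T → ℂ := indFun M (fun _ => 1) with hπ
  have hπcl : IsClassFunction T π := isClassFunction_indFun M _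
  have hπchar : IsCharacter T π := isCharacter_indFun M isCharacter_one
  have hπfix : ∀ g, π g = (Nat.card (fixedBy (Sylow 3 T) g) : ℂ) := fun g =>
    (card_fixedBy_eq_indFun (Sylow 3 T) P g).symm
  have hπ1 : π 1 = 22 := by
    rw [hπfix]
    have : Nat.card (fixedBy (Sylow 3 T) (1 : T)) = 22 := by
      exact (Nat.card_congr (Equiv.subtypeUnivEquiv (p := fun x => x ∈ fixedBy (Sylow 3 T) (1 : T)) (fun x => one_smul T x))).trans h22
    rw [this]; norm_num
  have hπQ : ∀ k : Fin 11, k ≠ 0 → π (e k : T) = 0 := by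
    intro k hk
    rw [hπfix, he]
    have : IsEmpty (fixedBy (Sylow 3 T) (q ^ (k : ℕ))) := ⟨fun ⟨R, hR⟩ => by
      have h1 := eq_one_of_eleven h22 (x := q ^ (k : ℕ))
        (by rw [← pow_mul, mul_comm, pow_mul, show q ^ 11 = 1 from hq ▸ pow_orderOf_eq_one q, one_pow]) hR
      have h2 := orderOf_dvd_of_pow_eq_one h1
      rw [hq] at h2
      exact hk (Fin.ext (Nat.eq_zero_of_dvd_of_lt h2 k.2))⟩
    simp
  -- coefficients
  choose c hc using fun a (χ : IrrCharacter T) => classInner_gen (hAgen a) (isGen_of_isIrr χ.2)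
  choose m hm using fun χ : IrrCharacter T => classInner_character_irr hπchar χ.2
  choose d hd0 hd using fun χ : IrrCharacter T => exists_degree_pos χ.2
  let e1 : IrrCharacter T := ⟨fun _ => 1, isIrr_one⟩
  have hnorm : ∀ a b, ∑ χ, c a χ * c b χ = if a = b then 3 else 2 := by
    intro a b
    have h := hinner a b
    rw [classInner_eq_sum (hAcl a)] at h
    simp only [hc, map_intCast] at h
    exact_mod_cast h
  have hdeg : ∀ a, ∑ χ, c a χ * (d χ : ℤ) = 0 := by
    intro a
    have h := congrFun (classFunction_expansion (hAcl a)) 1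
    rw [hA1] at h
    simp only [Finset.sum_apply, Pi.smul_apply, smul_eq_mul, hc, hd] at h
    exact_mod_cast h.symm
  have hperm : ∀ a, ∑ χ, c a χ * (m χ : ℤ) = 0 := by
    intro a
    have h : classInner (A a) π = 0 := by
      simp only [A]
      rw [classInner_indFun Q (f a) hπcl, hsumQ, Finset.sum_eq_zero, mul_zero]
      intro k _
      by_cases hk : k = 0
      · rw [hk, hf0, zero_mul]
      · rw [hπQ k hk, map_zero, mul_zero]
    rw [classInner_eq_sum (hAcl a)] at h
    simp only [hc, hm, map_natCast] at h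
    exact_mod_cast h
  have hce : ∀ a, c a e1 = 1 := by
    intro a
    have h : classInner (A a) (fun _ : T => (1 : ℂ)) = 1 := by
      simp only [A]
      rw [classInner_indFun Q (f a) (fun _ _ => rfl), hsumQ]
      simp only [hfe, map_one, mul_one, Finset.sum_sub_distrib, geom_zeta, Finset.sum_const,
        Finset.card_univ, Fintype.card_fin]
      rw [if_neg (show ¬ 11 ∣ (a : ℕ) + 1 by have := a.2; omega)]
      norm_num
    have := (hc a e1).symm.trans h
    exact_mod_cast this
  have hme : m e1 = 1 := by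
    have h : classInner π (fun _ : T => (1 : ℂ)) = 1 := by
      rw [hπ, classInner_indFun M _ (fun _ _ => rfl), classInner]
      simp
    have := (hm e1).symm.trans h
    exact_mod_cast this
  have had : ∑ χ, m χ * d χ = 22 := by
    have h := congrFun (classFunction_expansion hπcl) 1
    rw [hπ1] at h
    simp only [Finset.sum_apply, Pi.smul_apply, smul_eq_mul, hm, hd] at h
    exact_mod_cast h.symm
  have hde : d e1 = 1 := by
    have := (hd e1).symm
    change (d e1 : ℂ) = 1 at this
    exact_mod_cast this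
  have hlin : ∀ χ, d χ = 1 → χ = e1 := by
    intro χ hχ
    obtain ⟨φ, hφ⟩ := exists_hom_of_degree_one (isCharacter_of_isIrr χ.2) (by rw [hd, hχ, Nat.cast_one])
    have hk : φ.ker = ⊤ := by
      refine (MonoidHom.normal_ker φ).eq_bot_or_eq_top.resolve_left fun h => noncomm h22 ?_
      exact ⟨⟨fun x y => (MonoidHom.ker_eq_bot_iff φ).mp h (by rw [map_mul, map_mul, mul_comm])⟩⟩
    apply Subtype.ext
    rw [hφ]
    funext g
    have : φ g = 1 := MonoidHom.mem_ker.mp (by rw [hk]; exact Subgroup.mem_top g)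
    rw [this]
    rfl
  have hmod : ∀ χ, (11 : ℤ) ∣ (d χ : ℤ) + 2 * ∑ a, c a χ := by
    intro χ
    set s : Fin 11 → ℂ := fun k => conj ((χ : T → ℂ) (e k : T)) with hs
    have hreal : ∀ k, conj (s k) = s k := by
      intro k
      simp only [hs, Complex.conj_conj]
      rw [← character_inv (isCharacter_of_isIrr χ.2), he]
      have h := isClassFunction_of_isIrr χ.2 (q ^ (k : ℕ)) t
      rw [← conj_pow, ht, inv_pow] at h
      exact h.symm
    have hcs : ∀ a, (c a χ : ℂ) = (11 : ℂ)⁻¹ * ∑ k, f a (e k) * s k := by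
      intro a
      rw [← hc]
      simp only [A]
      rw [classInner_indFun Q (f a) (isClassFunction_of_isIrr χ.2), hsumQ]
    have h2 : ∀ a, (2 * (c a χ : ℂ)) = (11 : ℂ)⁻¹ * ∑ k, (f a (e k) + conj (f a (e k))) * s k := by
      intro a
      have h' : (c a χ : ℂ) = (11 : ℂ)⁻¹ * ∑ k, conj (f a (e k)) * s k := by
        have := congrArg conj (hcs a)
        simpa [map_sum, hreal, map_ofNat] using this
      rw [two_mul]
      nth_rewrite 1 [hcs]
      rw [h', ← mul_add, ← Finset.sum_add_distrib]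
      simp only [add_mul]
    have hsumf : ∀ k : Fin 11, ∑ a, (f a (e k) + conj (f a (e k))) = if k = 0 then 0 else 11 := by
      intro k
      simp only [hfe, map_sub, map_one, conj_zeta]
      by_cases hk : k = 0
      · subst hk; simp
      rw [if_neg hk]
      set z : ℂ := zeta ^ (k : ℕ) with hz
      have hz11 : z ^ 11 = 1 := by rw [hz, ← pow_mul, mul_comm, pow_mul, zeta_pow_eleven, one_pow]
      have hz1 : z ≠ 1 := by
        intro h
        exact hk (Fin.ext (Nat.eq_zero_of_dvd_of_lt
          ((zeta_primitive.pow_eq_one_iff_dvd _).mp h) k.2))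
      have hzn : ∀ n : ℕ, zeta ^ (n * (k : ℕ)) = z ^ n := fun n => by
        rw [hz, ← pow_mul, mul_comm]
      simp only [← mul_assoc, hzn, Fin.sum_univ_five]
      norm_num
      have hg : (z - 1) * (z ^ 10 + z ^ 9 + z ^ 8 + z ^ 7 + z ^ 6 + z ^ 5 + z ^ 4 + z ^ 3 + z ^ 2 + z + 1)
          = 0 := by linear_combination hz11
      have hg' := (mul_eq_zero.mp hg).resolve_left (sub_ne_zero.mpr hz1)
      linear_combination -hg' - (z ^ 9) * hz11 - (z ^ 8) * (z ^ 11 + 1) * hz11
        - (z ^ 7) * (z ^ 22 + z ^ 11 + 1) * hz11 - (z ^ 6) * (z ^ 33 + z ^ 22 + z ^ 11 + 1) * hz11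
    have hsum : ∃ n : ℕ, (11 : ℂ)⁻¹ * ∑ k, s k = n := by
      obtain ⟨n, hn⟩ := classInner_characters (G := Q) isCharacter_one
        (isCharacter_restrict Q (isCharacter_of_isIrr χ.2))
      refine ⟨n, ?_⟩
      rw [← hn, hsumQ]
      simp [hs]
    obtain ⟨n, hn⟩ := hsum
    refine ⟨n, ?_⟩
    have hs0 : s 0 = d χ := by
      have : (e 0 : T) = 1 := by simp [he]
      simp only [hs, this, hd, map_natCast]
    have key : (d χ : ℂ) + 2 * ∑ a, (c a χ : ℂ) = 11 * n := by
      rw [Finset.mul_sum, Finset.sum_congr rfl fun a _ => h2 a, ← Finset.mul_sum, Finset.sum_comm]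
      simp only [← Finset.sum_mul, hsumf]
      have : ∑ k, (if k = (0 : Fin 11) then (0 : ℂ) else 11) * s k = 11 * ∑ k, s k - 11 * s 0 := by
        rw [Finset.sum_congr rfl (g := fun k => 11 * s k - if k = 0 then 11 * s k else 0)
          (fun k _ => by split_ifs <;> ring), Finset.sum_sub_distrib, ← Finset.mul_sum,
          Finset.sum_ite_eq' Finset.univ (0 : Fin 11), if_pos (Finset.mem_univ _)]
      rw [this, ← hn, hs0]
      ring
    exact_mod_cast key
  have h3 := sum_sq_le_three e1 d m c hd0 hlin hde hce hnorm hdeg hperm hme had hmod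
  -- the norm of the permutation character counts orbits
  let Ω := orbitRel.Quotient M (Sylow 3 T)
  let _ : Fintype Ω := Fintype.ofFinite Ω
  have hππ : classInner π π = (Fintype.card Ω : ℂ) := by
    conv_lhs => rw [hπ, classInner_indFun M _ (hπ ▸ hπcl)]
    rw [classInner]
    simp only [one_mul]
    have hb := sum_card_fixedBy_eq_card_orbits_mul_card_group M (Sylow 3 T)
    have : ∀ g : M, conj (indFun M (fun _ => (1 : ℂ)) (g : T)) =
        (Fintype.card (fixedBy (Sylow 3 T) g) : ℂ) := by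
      intro g
      rw [← hπ, hπfix, map_natCast, ← Nat.card_eq_fintype_card]
      rfl
    rw [Finset.sum_congr rfl fun g _ => this g, ← Nat.cast_sum, hb, Nat.cast_mul,
      ← Nat.card_eq_fintype_card (α := M), mul_comm, mul_assoc, mul_inv_cancel₀ natCard_ne_zero,
      mul_one]
  rw [classInner_eq_sum hπcl] at hππ
  simp only [hm, map_natCast, ← sq] at hππ
  have : ∑ χ, m χ ^ 2 = Fintype.card Ω := by exact_mod_cast hππ
  rw [Nat.card_eq_fintype_card]
  exact this ▸ h3

end CfsgLib.TwentyTwo
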