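import Mathlib

/-!
# A simple group with 22 Sylow 3-subgroups: the elements of order 11

They act semiregularly, generate self-centralising subgroups, and these have normalisers of order 22.
-/

set_option autoImplicit false
set_option linter.unusedSectionVars false

namespace CfsgLib.TwentyTwo

open MulAction
open scoped Pointwise

section General

variable {G : Type*} [Group G] [Finite G]

/-- Elements of order dividing `p` fix every point of a small invariant set. -/
theorem smul_eq_of_small {X : Type*} [MulAction G X] {p : ℕ} [hp : Fact p.Prime] {x : G}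
    (hx : x ^ p = 1) (S : Finset X) (hS : S.card < p) (hinv : ∀ a ∈ S, x • a ∈ S) {a : X}
    (ha : a ∈ S) : x • a = a := by
  have h1 : period x a ∣ p := pow_smul_eq_iff_period_dvd.mp (by rw [hx, one_smul])
  rcases (Nat.dvd_prime hp.out).mp h1 with h | h
  · simpa using (pow_smul_eq_iff_period_dvd.mpr (by rw [h]) : x ^ 1 • a = a)
  exfalso
  have hmem : ∀ i : ℕ, x ^ i • a ∈ S := by
    intro i
    induction i with
    | zero => simpa using ha
    | succ i ih => rw [pow_succ', mul_smul]; exact hinv _ ih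
  have hinj : Function.Injective fun i : Fin p => (⟨x ^ (i : ℕ) • a, hmem i⟩ : S) := by
    intro i j hij
    have hij' : x ^ (i : ℕ) • a = x ^ (j : ℕ) • a := congrArg Subtype.val hij
    wlog hle : (i : ℕ) ≤ j generalizing i j
    · exact (this (Subtype.ext hij'.symm) hij'.symm (le_of_not_ge hle)).symm
    have : x ^ ((j : ℕ) - i) • a = a := by
      rw [← smul_left_cancel_iff (x ^ (i : ℕ)), ← mul_smul, ← pow_add, Nat.add_sub_cancel' hle]
      exact hij'.symm
    have h2 := pow_smul_eq_iff_period_dvd.mp this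
    rw [h] at h2
    have h3 := Nat.eq_zero_of_dvd_of_lt h2 (by omega)
    exact Fin.ext (by omega)
  have := Fintype.card_le_of_injective _ hinj
  simp only [Fintype.card_fin, Fintype.card_coe] at this
  omega

/-- The number of fixed points on an invariant set is congruent to its size. -/
theorem card_fixed_modEq {X : Type*} [MulAction G X] [DecidableEq X] {p : ℕ} [hp : Fact p.Prime]
    {x : G} (hx : x ^ p = 1) (S : Finset X) (hinv : ∀ a, a ∈ S ↔ x • a ∈ S) :
    (S.filter fun a => x • a = a).card ≡ S.card [MOD p] := by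
  classical
  set σ : Equiv.Perm {a // a ∈ S} :=
    (MulAction.toPerm x : Equiv.Perm X).subtypePerm fun a => (hinv a).symm with hσ
  have hσpow : σ ^ p ^ 1 = 1 := by
    rw [pow_one]
    ext a
    have hn : ∀ n : ℕ, (((σ ^ n) a : {a // a ∈ S}) : X) = x ^ n • (a : X) := by
      intro n
      induction n with
      | zero => simp
      | succ n ih => rw [pow_succ' σ, Equiv.Perm.mul_apply, pow_succ' x, mul_smul, ← ih]; rfl
    rw [hn, hx, one_smul]
    rfl
  have h := Equiv.Perm.card_compl_support_modEq hσpow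
  rw [Fintype.card_coe] at h
  refine Eq.trans (congrArg (· % p) ?_) h
  refine Finset.card_bij' (fun a ha => ⟨a, (Finset.mem_filter.1 ha).1⟩) (fun a _ => a.1) ?_ ?_
    (fun _ _ => rfl) (fun _ _ => rfl)
  · intro a ha
    simp only [Finset.mem_compl, Equiv.Perm.mem_support, not_not]
    exact Subtype.ext (Finset.mem_filter.1 ha).2
  · intro a ha
    simp only [Finset.mem_compl, Equiv.Perm.mem_support, not_not] at ha
    exact Finset.mem_filter.2 ⟨a.2, congrArg Subtype.val ha⟩

/-- Burnside's transfer theorem in a simple group. -/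
theorem false_of_normalizer_le_centralizer {p : ℕ} [Fact p.Prime] [IsSimpleGroup G] (P : Sylow p G)
    (hp : p ∣ Nat.card G) (hn : Nat.card (Sylow p G) ≠ 1)
    (h : Subgroup.normalizer ((P : Subgroup G) : Set G) ≤ Subgroup.centralizer ((P : Subgroup G) : Set G)) :
    False := by
  have hc := MonoidHom.ker_transferSylow_isComplement' P h
  rcases (MonoidHom.normal_ker (MonoidHom.transferSylow P h)).eq_bot_or_eq_top with h1 | h1
  · rw [h1] at hc
    have h2 := Subgroup.isComplement'_bot_left.mp hc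
    refine hn ?_
    rw [P.card_eq_index_normalizer, ← Sylow.coe_coe, h2, Subgroup.index_eq_one, eq_top_iff]
    exact Subgroup.le_normalizer
  · rw [h1] at hc
    exact absurd (Subgroup.isComplement'_top_left.mp hc) (P.ne_bot_of_dvd_card hp)

end General

variable {T : Type*} [Group T] [Finite T] [IsSimpleGroup T]
  (h22 : Nat.card (Sylow 3 T) = 22)

include h22

theorem toPerm_injective : Function.Injective (MulAction.toPermHom T (Sylow 3 T)) := by
  rw [← MonoidHom.ker_eq_bot_iff]
  refine (MonoidHom.normal_ker _).eq_bot_or_eq_top.resolve_right fun h => ?_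
  have : Subsingleton (Sylow 3 T) := ⟨fun Q R => by
    obtain ⟨g, hg⟩ := exists_smul_eq T Q R
    have hg' : g ∈ (MulAction.toPermHom T (Sylow 3 T)).ker := by rw [h]; exact Subgroup.mem_top g
    rw [MonoidHom.mem_ker] at hg'
    have : g • Q = Q := congrArg (fun σ : Equiv.Perm (Sylow 3 T) => σ Q) hg'
    exact this.symm.trans hg⟩
  obtain ⟨P⟩ : Nonempty (Sylow 3 T) := Sylow.nonempty
  have := Nat.card_of_subsingleton P
  omega

theorem eq_one_of_fixes_all {g : T} (h : ∀ P : Sylow 3 T, g • P = P) : g = 1 :=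
  toPerm_injective h22 (by rw [map_one]; exact Equiv.ext h)

theorem twentytwo_dvd_card : 22 ∣ Nat.card T := by
  obtain ⟨P⟩ : Nonempty (Sylow 3 T) := Sylow.nonempty
  rw [← h22, P.card_eq_index_normalizer]
  exact Subgroup.index_dvd_card _

theorem noncomm : ¬ IsMulCommutative T := by
  intro h
  have hsub : Subsingleton (Sylow 3 T) := ⟨fun P Q => by
    obtain ⟨g, hg⟩ := exists_smul_eq T P Q
    rw [← hg, eq_comm, Sylow.smul_eq_iff_mem_normalizer]
    refine Subgroup.mem_normalizer_iff.mpr fun y => ?_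
    rw [mul_comm' g y, mul_inv_cancel_right]⟩
  obtain ⟨P⟩ : Nonempty (Sylow 3 T) := Sylow.nonempty
  have := Nat.card_of_subsingleton P
  omega

theorem sign_eq_one (g : T) [Fintype (Sylow 3 T)] [DecidableEq (Sylow 3 T)] :
    Equiv.Perm.sign (MulAction.toPermHom T (Sylow 3 T) g) = 1 := by
  set f := Equiv.Perm.sign.comp (MulAction.toPermHom T (Sylow 3 T))
  have : f.ker = ⊤ := by
    refine (MonoidHom.normal_ker _).eq_bot_or_eq_top.resolve_left fun h => ?_
    have h1 := Nat.card_le_card_of_injective _ ((MonoidHom.ker_eq_bot_iff _).mp h)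
    rw [Nat.card_eq_fintype_card (α := ℤˣ), Fintype.card_units_int] at h1
    have := Nat.le_of_dvd Nat.card_pos (twentytwo_dvd_card h22)
    omega
  have hg : g ∈ f.ker := by rw [this]; exact Subgroup.mem_top g
  exact MonoidHom.mem_ker.mp hg

/-- An involution moves an even number of transpositions. -/
theorem four_dvd_support [Fintype (Sylow 3 T)] [DecidableEq (Sylow 3 T)] {t : T} (ht : t * t = 1) :
    4 ∣ (MulAction.toPermHom T (Sylow 3 T) t).support.card := by
  set σ := MulAction.toPermHom T (Sylow 3 T) t with hσ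
  have hσ2 : σ ^ 2 = 1 := by rw [hσ, ← map_pow, pow_two, ht, map_one]
  by_cases h1 : σ = 1
  · simp [h1]
  obtain ⟨n, hn⟩ := Equiv.Perm.cycleType_prime_order (σ := σ)
    (by rw [orderOf_eq_prime hσ2 h1]; norm_num)
  rw [orderOf_eq_prime hσ2 h1] at hn
  have hs := sign_eq_one h22 t
  rw [← hσ, Equiv.Perm.sign_of_cycleType, hn, Multiset.sum_replicate, Multiset.card_replicate,
    smul_eq_mul] at hs
  rw [← σ.sum_cycleType, hn, Multiset.sum_replicate, smul_eq_mul]
  rcases Nat.even_or_odd (n + 1) with ⟨k, hk⟩ | hodd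
  · exact ⟨k, by omega⟩
  · have : Odd ((n + 1) * 2 + (n + 1)) := by
      obtain ⟨k, hk⟩ := hodd
      exact ⟨3 * k + 1, by omega⟩
    rw [this.neg_one_pow] at hs
    exact absurd hs (by decide)

theorem maximal_normalizer (P : Sylow 3 T) {L : Subgroup T}
    (hL : Subgroup.normalizer ((P : Subgroup T) : Set T) ≤ L) :
    L = Subgroup.normalizer ((P : Subgroup T) : Set T) ∨ L = ⊤ := by
  set M := Subgroup.normalizer ((P : Subgroup T) : Set T) with hM
  have hPL : (P : Subgroup T) ≤ L := Subgroup.le_normalizer.trans hL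
  have h1 : M.relIndex L * L.index = 22 := by
    rw [Subgroup.relIndex_mul_index hL, ← h22, P.card_eq_index_normalizer, hM]
    rfl
  have h2 : M.relIndex L ≡ 1 [MOD 3] := by
    have : Nat.card (Sylow 3 L) = M.relIndex L := by
      rw [(P.subtype hPL).card_eq_index_normalizer, ← Sylow.coe_coe, Sylow.coe_subtype, hM,
        ← Subgroup.subgroupOf_normalizer_eq hPL]
      rfl
    rw [← this]
    exact card_sylow_modEq_one 3 L
  have hdiv : Nat.divisors 22 = {1, 2, 11, 22} := by decide
  have hmem := Nat.mem_divisors.mpr ⟨(⟨_, h1.symm⟩ : M.relIndex L ∣ 22), by norm_num⟩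
  rw [hdiv] at hmem
  simp only [Finset.mem_insert, Finset.mem_singleton] at hmem
  rcases hmem with h | h | h | h
  · exact Or.inl (le_antisymm (Subgroup.relIndex_eq_one.mp h) hL)
  · rw [h] at h2; exact absurd h2 (by decide)
  · rw [h] at h2; exact absurd h2 (by decide)
  · rw [h] at h1; exact Or.inr (Subgroup.index_eq_one.mp (by omega))

theorem smul_self_of_mem {P : Sylow 3 T} {g : T} (hg : g ∈ P) : g • P = P :=
  Sylow.smul_eq_iff_mem_normalizer.mpr (Subgroup.le_normalizer hg)

theorem mem_of_fixed {P Q : Sylow 3 T} {g : T} (hg : g ∈ P) (h : g • Q = Q) : g ∈ Q := by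
  have hpg : IsPGroup 3 (Subgroup.zpowers g) := P.2.to_le (Subgroup.zpowers_le.mpr hg)
  have h1 : g ∈ Subgroup.zpowers g ⊓ Subgroup.normalizer ((Q : Subgroup T) : Set T) :=
    ⟨Subgroup.mem_zpowers g, Sylow.smul_eq_iff_mem_normalizer.mp h⟩
  rw [Sylow.coe_coe, hpg.inf_normalizer_sylow] at h1
  exact h1.2

theorem card_orbit_sylow {P Q : Sylow 3 T} (hQ : Q ≠ P) :
    (Nat.card (orbit ↥(P : Subgroup T) Q) = 3 ∨ Nat.card (orbit ↥(P : Subgroup T) Q) = 9) ∧
      P ∉ orbit ↥(P : Subgroup T) Q := by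
  have hP : P ∉ orbit ↥(P : Subgroup T) Q := by
    rintro ⟨g, hg⟩
    change (g : T) • Q = P at hg
    refine hQ ?_
    rw [← inv_smul_smul (g : T) Q, hg]
    exact smul_self_of_mem h22 (inv_mem g.2)
  refine ⟨?_, hP⟩
  obtain ⟨n, hn⟩ := P.2.card_orbit Q
  have hn0 : n ≠ 0 := by
    rintro rfl
    rw [pow_zero, Nat.card_eq_one_iff_unique] at hn
    have := hn.1
    refine hQ (Sylow.ext ?_)
    have hle : (P : Subgroup T) ≤ Q := fun g hg => mem_of_fixed h22 hg
      (congrArg Subtype.val (Subsingleton.elim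
        (⟨g • Q, ⟨⟨g, hg⟩, rfl⟩⟩ : orbit ↥(P : Subgroup T) Q) ⟨Q, mem_orbit_self Q⟩))
    exact Subgroup.ext fun x => ⟨fun h => by rw [← P.is_maximal' Q.2 hle]; exact h, fun h => hle h⟩
  have hle : 3 ^ n ≤ 21 := by
    rw [← hn, Nat.card_coe_set_eq]
    have h1 : (orbit ↥(P : Subgroup T) Q).ncard ≤ ({P}ᶜ : Set (Sylow 3 T)).ncard :=
      Set.ncard_le_ncard (fun y hy e => hP (by rwa [Set.mem_singleton_iff.mp e] at hy)) (Set.toFinite _)
    have := Set.ncard_add_ncard_compl ({P} : Set (Sylow 3 T))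
    rw [Set.ncard_singleton, h22] at this
    omega
  rw [hn]
  rcases n with _ | _ | _ | n
  · exact absurd rfl hn0
  · exact Or.inl rfl
  · exact Or.inr rfl
  · have := Nat.one_le_pow n 3 (by norm_num)
    rw [pow_succ, pow_succ, pow_succ] at hle
    omega

theorem eq_one_of_eleven {x : T} (hx : x ^ 11 = 1) {P : Sylow 3 T} (hP : x • P = P) : x = 1 := by
  classical
  have : Fact (Nat.Prime 11) := ⟨by norm_num⟩
  let _ := Fintype.ofFinite (Sylow 3 T)
  refine eq_one_of_fixes_all h22 fun Q => ?_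
  by_cases hQP : Q = P
  · rw [hQP, hP]
  have hnorm : ∀ (g : ↥(P : Subgroup T)), x * g * x⁻¹ ∈ P := fun g =>
    (Subgroup.mem_normalizer_iff.mp (Sylow.smul_eq_iff_mem_normalizer.mp hP) g).mp g.2
  set orb : Sylow 3 T → Finset (Sylow 3 T) := fun R =>
    (orbit ↥(P : Subgroup T) R).toFinite.toFinset with horb
  have hmem : ∀ R S, S ∈ orb R ↔ S ∈ orbit ↥(P : Subgroup T) R := fun R S => by simp [horb]
  have hcard : ∀ R, (orb R).card = Nat.card (orbit ↥(P : Subgroup T) R) := fun R => by
    rw [Nat.card_coe_set_eq, Set.ncard_eq_toFinset_card _ (Set.toFinite _)]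
  have himg : ∀ R S, S ∈ orb R → x • S ∈ orb (x • R) := by
    intro R S hS
    rw [hmem] at hS ⊢
    obtain ⟨g, rfl⟩ := hS
    refine ⟨⟨x * g * x⁻¹, hnorm g⟩, ?_⟩
    change (x * g * x⁻¹) • x • R = x • ((g : T) • R)
    rw [← mul_smul, ← mul_smul]
    congr 1
    group
  set O : Finset (Finset (Sylow 3 T)) := (Finset.univ.filter (· ≠ P)).image orb with hO
  have hOcard : O.card ≤ 7 := by
    have hdisj : (O : Set (Finset (Sylow 3 T))).PairwiseDisjoint id := by
      intro A hA B hB hAB
      obtain ⟨R, -, rfl⟩ := Finset.mem_image.mp hA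
      obtain ⟨S, -, rfl⟩ := Finset.mem_image.mp hB
      refine Finset.disjoint_left.mpr fun y hyR hyS => hAB ?_
      simp only [id, hmem] at hyR hyS
      apply Finset.ext
      intro z
      rw [hmem, hmem, ← orbit_eq_iff.mpr hyR, orbit_eq_iff.mpr hyS]
    have hb := Finset.card_biUnion hdisj
    have h1 : ∀ A ∈ O, 3 ≤ A.card := by
      intro A hA
      obtain ⟨R, hR, rfl⟩ := Finset.mem_image.mp hA
      rw [hcard]
      rcases (card_orbit_sylow h22 (Finset.mem_filter.mp hR).2).1 with h | h <;> omega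
    have h2 : (O.biUnion id).card ≤ ({P}ᶜ : Finset (Sylow 3 T)).card := by
      refine Finset.card_le_card fun y hy => ?_
      obtain ⟨A, hA, hyA⟩ := Finset.mem_biUnion.mp hy
      obtain ⟨R, hR, rfl⟩ := Finset.mem_image.mp hA
      rw [Finset.mem_compl, Finset.mem_singleton]
      rintro rfl
      exact (card_orbit_sylow h22 (Finset.mem_filter.mp hR).2).2 ((hmem _ _).mp hyA)
    rw [Finset.card_compl, Finset.card_singleton, ← Nat.card_eq_fintype_card, h22, hb] at h2
    have h3 := Finset.card_nsmul_le_sum O _ 3 h1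
    simp only [smul_eq_mul] at h3
    change ∑ u ∈ O, u.card ≤ 22 - 1 at h2
    linarith
  let _ : MulAction T (Finset (Sylow 3 T)) := Finset.mulActionFinset
  have hsm : ∀ R, x • orb R = orb (x • R) := by
    intro R
    refine Finset.eq_of_subset_of_card_le (fun y hy => ?_) ?_
    · obtain ⟨S, hS, rfl⟩ := Finset.mem_smul_finset.mp hy
      exact himg R S hS
    · rw [Finset.card_smul_finset]
      refine Finset.card_le_card_of_injOn (fun S => x⁻¹ • S) (fun S hS => ?_)
        (fun a _ b _ h => smul_left_cancel _ h)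
      rw [Finset.mem_coe, hmem] at hS ⊢
      obtain ⟨g, rfl⟩ := hS
      have hi : x⁻¹ * g * x ∈ P := by
        have hinv : x⁻¹ ∈ Subgroup.normalizer ((P : Subgroup T) : Set T) :=
          inv_mem (Sylow.smul_eq_iff_mem_normalizer.mp hP)
        have := (Subgroup.mem_normalizer_iff.mp hinv g).mp g.2
        rw [inv_inv] at this
        exact this
      refine ⟨⟨x⁻¹ * g * x, hi⟩, ?_⟩
      change (x⁻¹ * g * x) • R = x⁻¹ • ((g : T) • x • R)
      rw [← mul_smul, ← mul_smul]
  have hQO : orb Q ∈ O := Finset.mem_image.mpr ⟨Q, by simp [hQP], rfl⟩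
  have hfix : x • orb Q = orb Q := by
    refine smul_eq_of_small hx O (by omega) (fun A hA => ?_) hQO
    obtain ⟨R, hR, rfl⟩ := Finset.mem_image.mp hA
    rw [hsm]
    refine Finset.mem_image.mpr ⟨x • R, ?_, rfl⟩
    simp only [Finset.mem_filter, Finset.mem_univ, true_and] at hR ⊢
    exact fun h => hR (smul_left_cancel x (h.trans hP.symm))
  refine smul_eq_of_small hx (orb Q) ?_ (fun S hS => hfix ▸ Finset.smul_mem_smul_finset hS)
    ((hmem _ _).mpr (mem_orbit_self Q))
  rw [hcard]
  rcases (card_orbit_sylow h22 hQP).1 with h | h <;> omega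

theorem exists_eleven : ∃ q : T, orderOf q = 11 :=
  have : Fact (Nat.Prime 11) := ⟨by norm_num⟩
  exists_prime_orderOf_dvd_card' 11 (dvd_trans (by norm_num) (twentytwo_dvd_card h22))

variable {q : T} (hq : orderOf q = 11)
include hq

theorem pow_eq_one_iff_fix {P : Sylow 3 T} {k : ℤ} : q ^ k • P = P ↔ q ^ k = 1 := by
  refine ⟨fun h => eq_one_of_eleven h22 ?_ h, fun h => by rw [h, one_smul]⟩
  rw [← zpow_natCast, ← zpow_mul, mul_comm, zpow_mul, zpow_natCast, ← hq, pow_orderOf_eq_one,
    one_zpow]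

theorem card_orbit_zpowers (P : Sylow 3 T) :
    Nat.card (orbit (Subgroup.zpowers q) P) = 11 := by
  rw [Nat.card_congr (orbitEquivQuotientStabilizer _ P), ← Subgroup.index_eq_card]
  have : stabilizer (Subgroup.zpowers q) P = ⊥ := by
    rw [eq_bot_iff]
    rintro ⟨g, hg⟩ h
    obtain ⟨k, rfl⟩ := Subgroup.mem_zpowers_iff.mp hg
    rw [Subgroup.mem_bot]
    exact Subtype.ext ((pow_eq_one_iff_fix h22 hq).mp h)
  rw [this, Subgroup.index_bot, Nat.card_zpowers, hq]

theorem mem_orbit_cases (P Q R : Sylow 3 T) (hQ : Q ∉ orbit (Subgroup.zpowers q) P) :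
    R ∈ orbit (Subgroup.zpowers q) P ∨ R ∈ orbit (Subgroup.zpowers q) Q := by
  by_contra hR
  push Not at hR
  have hdisj : Disjoint (orbit (Subgroup.zpowers q) P) (orbit (Subgroup.zpowers q) Q) := by
    rw [Set.disjoint_left]
    intro z hz hz'
    exact hQ (by rw [← orbit_eq_iff.mpr hz, orbit_eq_iff.mpr hz']; exact mem_orbit_self Q)
  have h1 := Set.ncard_union_eq hdisj (Set.toFinite _) (Set.toFinite _)
  have h2 : (insert R (orbit (Subgroup.zpowers q) P ∪ orbit (Subgroup.zpowers q) Q)).ncard ≤ 22 :=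
    h22 ▸ Set.ncard_univ (Sylow 3 T) ▸ Set.ncard_le_ncard (Set.subset_univ _) (Set.toFinite _)
  rw [Set.ncard_insert_of_notMem (by simp [hR.1, hR.2]) (Set.toFinite _), h1,
    ← Nat.card_coe_set_eq, ← Nat.card_coe_set_eq, card_orbit_zpowers h22 hq,
    card_orbit_zpowers h22 hq] at h2
  omega

theorem mem_zpowers_of_commute_of_mem_orbit {g : T} (hg : Commute g q) {P : Sylow 3 T}
    (hP : g • P ∈ orbit (Subgroup.zpowers q) P) : g ∈ Subgroup.zpowers q := by
  obtain ⟨⟨r, hr⟩, hrP⟩ := hP
  obtain ⟨j, rfl⟩ := Subgroup.mem_zpowers_iff.mp hr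
  change q ^ j • P = g • P at hrP
  set g' := (q ^ j)⁻¹ * g with hg'
  suffices g' = 1 by rw [← inv_mul_eq_one.mp this]; exact hr
  have hfix : g' • P = P := by rw [hg', mul_smul, ← hrP, inv_smul_smul]
  have hc : ∀ k : ℤ, Commute g' (q ^ k) := fun k =>
    ((((Commute.refl q).zpow_zpow j k)).inv_left.mul_left (hg.zpow_right k))
  have hfixO : ∀ R ∈ orbit (Subgroup.zpowers q) P, g' • R = R := by
    rintro _ ⟨⟨r, hr⟩, rfl⟩
    obtain ⟨k, rfl⟩ := Subgroup.mem_zpowers_iff.mp hr
    change g' • q ^ k • P = q ^ k • P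
    rw [← mul_smul, (hc k).eq, mul_smul, hfix]
  obtain ⟨Q, hQ⟩ : ∃ Q, Q ∉ orbit (Subgroup.zpowers q) P := by
    by_contra h
    push Not at h
    have h1 := card_orbit_zpowers h22 hq P
    rw [Set.eq_univ_of_forall h, Nat.card_coe_set_eq, Set.ncard_univ, h22] at h1
    omega
  have hQ' : g' • Q ∈ orbit (Subgroup.zpowers q) Q := by
    refine (mem_orbit_cases h22 hq P Q _ hQ).resolve_left fun h => hQ ?_
    have := hfixO _ h
    rw [smul_left_cancel_iff] at this
    rwa [this] at h
  obtain ⟨⟨r, hr⟩, hrQ⟩ := hQ'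
  obtain ⟨i, rfl⟩ := Subgroup.mem_zpowers_iff.mp hr
  change q ^ i • Q = g' • Q at hrQ
  have hpow : ∀ n : ℕ, g' ^ n • Q = (q ^ i) ^ n • Q := by
    intro n
    induction n with
    | zero => simp
    | succ n ih =>
      rw [pow_succ', mul_smul, ih, ← mul_smul, ((hc i).pow_right n).eq, mul_smul, ← hrQ,
        ← mul_smul, ← pow_succ]
  have h11 : g' ^ 11 = 1 := by
    refine eq_one_of_fixes_all h22 fun R => ?_
    rcases mem_orbit_cases h22 hq P Q R hQ with h | h
    · have hmem : g' ∈ stabilizer T R := hfixO R h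
      exact pow_mem hmem 11
    · obtain ⟨⟨r, hr⟩, rfl⟩ := h
      obtain ⟨k, rfl⟩ := Subgroup.mem_zpowers_iff.mp hr
      change g' ^ 11 • q ^ k • Q = q ^ k • Q
      rw [← mul_smul, ((hc k).pow_left 11).eq, mul_smul, hpow, ← zpow_natCast, ← zpow_mul,
        mul_comm i, zpow_mul, zpow_natCast, ← hq, pow_orderOf_eq_one, one_zpow, one_smul]
  exact eq_one_of_eleven h22 h11 hfix

theorem mem_zpowers_of_commute {g : T} (hg : Commute g q) : g ∈ Subgroup.zpowers q := by
  classical
  let _ := Fintype.ofFinite (Sylow 3 T)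
  obtain ⟨P⟩ : Nonempty (Sylow 3 T) := Sylow.nonempty
  set O := orbit (Subgroup.zpowers q) P with hO
  by_cases hP : g • P ∈ O
  · exact mem_zpowers_of_commute_of_mem_orbit h22 hq hg hP
  exfalso
  have hO' : ∀ R ∈ O, g • R ∉ O := by
    rintro _ ⟨⟨r, hr⟩, rfl⟩ h
    obtain ⟨k, rfl⟩ := Subgroup.mem_zpowers_iff.mp hr
    change g • q ^ k • P ∈ O at h
    rw [← mul_smul, (hg.zpow_right k).eq, mul_smul] at h
    exact hP (mem_orbit_of_mem_orbit ⟨q ^ k, hr⟩⁻¹ h |> fun h' => by
      simpa [Subgroup.smul_def, hO] using h')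
  have hsq : g • g • P ∈ O := by
    rcases mem_orbit_cases h22 hq P (g • P) (g • g • P) hP with h | h
    · exact h
    exfalso
    obtain ⟨⟨r, hr⟩, hrP⟩ := h
    obtain ⟨k, rfl⟩ := Subgroup.mem_zpowers_iff.mp hr
    change q ^ k • g • P = g • g • P at hrP
    rw [← mul_smul, ← (hg.zpow_right k).eq, mul_smul, smul_left_cancel_iff] at hrP
    exact hP ⟨⟨q ^ k, hr⟩, hrP⟩
  obtain ⟨j, hj⟩ := Subgroup.mem_zpowers_iff.mp
    (mem_zpowers_of_commute_of_mem_orbit h22 hq (hg.mul_left hg) (P := P) (by rwa [mul_smul]))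
  set t := g * (g * g) ^ 5 with ht
  have hg22 : (g * g) ^ 11 = 1 := by
    rw [← hj, ← zpow_natCast, ← zpow_mul, mul_comm, zpow_mul, zpow_natCast, ← hq,
      pow_orderOf_eq_one, one_zpow]
  have ht2 : t * t = 1 := by
    have : t * t = (g * g) ^ 11 := by
      simp only [ht, ← pow_two, ← pow_mul, ← pow_succ', ← pow_add]
    rw [this, hg22]
  have htO : ∀ R ∈ O, t • R ∉ O := by
    intro R hR
    rw [ht, mul_smul]
    refine hO' _ ?_
    rw [← hj, ← zpow_natCast, ← zpow_mul]
    exact mem_orbit_of_mem_orbit (⟨q ^ (j * (5 : ℕ)), Subgroup.zpow_mem_zpowers q _⟩ :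
      Subgroup.zpowers q) hR
  have hsupp : (MulAction.toPermHom T (Sylow 3 T) t).support = Finset.univ := by
    refine Finset.eq_univ_of_forall fun R => ?_
    rw [Equiv.Perm.mem_support]
    change t • R ≠ R
    intro h
    by_cases hR : R ∈ O
    · exact htO R hR (by rwa [h])
    rcases mem_orbit_cases h22 hq P (g • P) R hP with h' | h'
    · exact hR h'
    obtain ⟨⟨r, hr⟩, rfl⟩ := h'
    obtain ⟨k, rfl⟩ := Subgroup.mem_zpowers_iff.mp hr
    change t • q ^ k • g • P = q ^ k • g • P at h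
    have hc : Commute t (q ^ k) :=
      (hg.mul_left ((hg.mul_left hg).pow_left 5)).zpow_right k
    have hct : Commute t g := (Commute.refl g).mul_left (((Commute.refl g).mul_left (Commute.refl g)).pow_left 5)
    rw [← mul_smul, hc.eq, mul_smul, smul_left_cancel_iff, ← mul_smul, hct.eq, mul_smul,
      smul_left_cancel_iff] at h
    exact htO P (mem_orbit_self P) (by rw [h]; exact mem_orbit_self P)
  have := four_dvd_support h22 ht2
  rw [hsupp, Finset.card_univ, ← Nat.card_eq_fintype_card, h22] at this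
  omega

theorem centralizer_zpowers :
    Subgroup.centralizer ((Subgroup.zpowers q : Subgroup T) : Set T) = Subgroup.zpowers q := by
  refine le_antisymm (fun g hg => ?_) ?_
  · exact mem_zpowers_of_commute h22 hq
      (Subgroup.mem_centralizer_iff.mp hg q (Subgroup.mem_zpowers q)).symm
  · intro g hg
    obtain ⟨k, rfl⟩ := Subgroup.mem_zpowers_iff.mp hg
    rw [Subgroup.mem_centralizer_iff]
    intro h hh
    obtain ⟨i, rfl⟩ := Subgroup.mem_zpowers_iff.mp hh
    exact ((Commute.refl q).zpow_zpow i k).eq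

theorem not_dvd_card_pow : ¬ 11 ^ 2 ∣ Nat.card T := by
  have : Fact (Nat.Prime 11) := ⟨by norm_num⟩
  intro h
  obtain ⟨Q⟩ : Nonempty (Sylow 11 T) := Sylow.nonempty
  obtain ⟨P⟩ : Nonempty (Sylow 3 T) := Sylow.nonempty
  obtain ⟨n, hn⟩ := IsPGroup.exists_card_eq Q.2
  have h2 : 2 ≤ n := by
    have := (Nat.Prime.pow_dvd_iff_le_factorization Fact.out Nat.card_pos.ne').mp h
    have e := Q.card_eq_multiplicity
    rw [hn] at e
    rw [Nat.pow_right_injective (le_refl 2 |>.trans (by norm_num)) e]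
    exact this
  have hstab : stabilizer ↥(Q : Subgroup T) P = ⊥ := by
    rw [eq_bot_iff]
    intro g hg
    by_contra hne
    obtain ⟨k, hk⟩ := (Nat.dvd_prime_pow Fact.out).mp (hn ▸ orderOf_dvd_natCard g)
    rcases k with _ | k
    · exact hne (by rw [Subgroup.mem_bot, ← orderOf_eq_one_iff, hk.2, pow_zero])
    have h1 : (g : T) ^ 11 ^ k = 1 := eq_one_of_eleven h22
      (by rw [← pow_mul, ← pow_succ, ← Subgroup.coe_pow, ← hk.2, pow_orderOf_eq_one, OneMemClass.coe_one])
      (pow_mem (show (g : T) ∈ stabilizer T P from hg) _)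
    have h2 : orderOf (g : T) ∣ 11 ^ k := orderOf_dvd_of_pow_eq_one h1
    rw [Subgroup.orderOf_coe, hk.2] at h2
    have := Nat.pow_dvd_pow_iff_le_right (by norm_num : 1 < 11) |>.mp h2
    omega
  have h3 : Nat.card (orbit ↥(Q : Subgroup T) P) ≤ 22 :=
    h22 ▸ Nat.card_le_card_of_injective Subtype.val Subtype.val_injective
  rw [Nat.card_congr (orbitEquivQuotientStabilizer _ P), ← Subgroup.index_eq_card, hstab,
    Subgroup.index_bot, hn] at h3
  have := Nat.pow_le_pow_right (by norm_num : 1 ≤ 11) h2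
  omega

theorem exists_sylow_eleven : ∃ Q : Sylow 11 T, (Q : Subgroup T) = Subgroup.zpowers q := by
  have : Fact (Nat.Prime 11) := ⟨by norm_num⟩
  obtain ⟨Q, hQ⟩ := IsPGroup.exists_le_sylow
    (IsPGroup.of_card (n := 1) (by rw [Nat.card_zpowers, hq, pow_one]) :
      IsPGroup 11 (Subgroup.zpowers q))
  refine ⟨Q, (Subgroup.eq_of_le_of_card_ge hQ ?_).symm⟩
  rw [Nat.card_zpowers, hq, Q.card_eq_multiplicity]
  refine (Nat.pow_le_pow_right (by norm_num) ?_).trans (pow_one 11).le
  by_contra h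
  exact not_dvd_card_pow h22 hq
    ((Nat.Prime.pow_dvd_iff_le_factorization Fact.out Nat.card_pos.ne').mpr (by omega))

theorem normalizer_facts :
    Nat.card (Subgroup.normalizer ((Subgroup.zpowers q : Subgroup T) : Set T)) = 22 ∧
      ∀ P : Sylow 3 T, Nat.card (Subgroup.normalizer ((P : Subgroup T) : Set T)) ≡ 1 [MOD 11] := by
  classical
  have : Fact (Nat.Prime 11) := ⟨by norm_num⟩
  let _ := Fintype.ofFinite (Sylow 3 T)
  obtain ⟨Q, hQ⟩ := exists_sylow_eleven h22 hq
  set Z := Subgroup.zpowers q with hZ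
  set N := Subgroup.normalizer (Z : Set T) with hN
  have hZcard : Nat.card Z = 11 := by rw [hZ, Nat.card_zpowers, hq]
  have hker : Z.normalizerMonoidHom.ker = Z.subgroupOf N := by
    rw [Subgroup.normalizerMonoidHom_ker]
    exact congrArg (fun U : Subgroup T => U.subgroupOf N) (centralizer_zpowers h22 hq)
  have hidx : (Z.subgroupOf N).index ∣ 10 := by
    rw [← hker, Subgroup.index_ker]
    refine (Subgroup.card_subgroup_dvd_card _).trans ?_
    rw [IsCyclic.card_mulAut, hZcard, Nat.totient_prime (by norm_num)]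
  have hcard : Nat.card N = 11 * (Z.subgroupOf N).index := by
    rw [← Subgroup.card_mul_index (Z.subgroupOf N)]
    congr 1
    rw [Nat.card_congr (Subgroup.subgroupOfEquivOfLe Subgroup.le_normalizer).toEquiv, hZcard]
  have hn11 : Nat.card (Sylow 11 T) = N.index := by
    rw [Q.card_eq_index_normalizer, ← Sylow.coe_coe, hQ]
  have hn1 : Nat.card (Sylow 11 T) ≠ 1 := by
    intro h
    have hnorm : Z.Normal := by
      rw [← hQ]
      have := (Nat.card_eq_one_iff_unique.mp h).1
      exact Sylow.normal_of_subsingleton Q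
    rcases hnorm.eq_bot_or_eq_top with h1 | h1
    · rw [h1, Subgroup.card_bot] at hZcard; omega
    · have := twentytwo_dvd_card h22
      rw [← Subgroup.card_top, ← h1, hZcard] at this
      norm_num at this
  have h1 : (Z.subgroupOf N).index ≠ 1 := by
    intro h
    refine false_of_normalizer_le_centralizer Q (dvd_trans (by norm_num) (twentytwo_dvd_card h22))
      hn1 ?_
    rw [hQ, hZ, centralizer_zpowers h22 hq]
    exact Subgroup.relIndex_eq_one.mp h
  have h5 : ¬ 5 ∣ (Z.subgroupOf N).index := by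
    intro h5
    have : Fact (Nat.Prime 5) := ⟨by norm_num⟩
    obtain ⟨y, hy⟩ := exists_prime_orderOf_dvd_card' (G := N) 5 (hcard ▸ h5.mul_left 11)
    have hyT : orderOf (y : T) = 5 := by rw [Subgroup.orderOf_coe, hy]
    have hy5 : (y : T) ^ 5 = 1 := hyT ▸ pow_orderOf_eq_one _
    have huniq : ∀ A B : Sylow 3 T, (y : T) • A = A → (y : T) • B = B →
        B ∈ orbit Z A → B = A := by
      rintro A _ hA hB ⟨⟨r, hr⟩, rfl⟩
      change (y : T) • r • A = r • A at hB
      change r • A = A
      have hconj : (y : T) * r * (y : T)⁻¹ ∈ Z := (Subgroup.mem_normalizer_iff.mp y.2 r).mp hr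
      have hd : r⁻¹ * ((y : T) * r * (y : T)⁻¹) ∈ Z := mul_mem (inv_mem hr) hconj
      have hfix : (r⁻¹ * ((y : T) * r * (y : T)⁻¹)) • A = A := by
        rw [mul_smul, mul_smul, mul_smul,
          show (y : T)⁻¹ • A = A from inv_smul_eq_iff.mpr hA.symm, hB, inv_smul_smul]
      obtain ⟨i, hi⟩ := Subgroup.mem_zpowers_iff.mp hd
      rw [← hi] at hfix
      have := (pow_eq_one_iff_fix h22 hq).mp hfix
      rw [hi, inv_mul_eq_one] at this
      by_cases hr1 : r = 1
      · rw [hr1, one_smul]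
      exfalso
      have hgen : Subgroup.zpowers r = Z :=
        Subgroup.eq_of_le_of_card_ge (Subgroup.zpowers_le.mpr hr) (by
          rw [hZcard, Nat.card_zpowers]
          have hdvd : orderOf r ∣ 11 := hZcard ▸ Subgroup.orderOf_dvd_natCard Z hr
          rcases (Nat.dvd_prime (by norm_num)).mp hdvd with e | e
          · exact absurd (orderOf_eq_one_iff.mp e) hr1
          · omega)
      have hyr : Commute (y : T) r := (mul_inv_eq_iff_eq_mul.mp this.symm)
      obtain ⟨i, hi⟩ := Subgroup.mem_zpowers_iff.mp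
        (show q ∈ Subgroup.zpowers r by rw [hgen]; exact Subgroup.mem_zpowers q)
      have hyZ := mem_zpowers_of_commute h22 hq (hi ▸ hyr.zpow_right i : Commute (y : T) q)
      have := Subgroup.orderOf_dvd_natCard Z hyZ
      rw [hyT, hZcard] at this
      norm_num at this
    set Fx := (Finset.univ : Finset (Sylow 3 T)).filter fun A => (y : T) • A = A with hFx
    have hFxmod := card_fixed_modEq hy5 (Finset.univ : Finset (Sylow 3 T)) (by simp)
    rw [Finset.card_univ, ← Nat.card_eq_fintype_card, h22, ← hFx] at hFxmod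
    have hle : Fx.card ≤ 2 := by
      by_contra hlt
      obtain ⟨A, B, C, hA, hB, hC, hAB, hAC, hBC⟩ := Finset.two_lt_card_iff.mp (by omega : 2 < Fx.card)
      simp only [hFx, Finset.mem_filter, Finset.mem_univ, true_and] at hA hB hC
      by_cases hBO : B ∈ orbit Z A
      · exact hAB (huniq A B hA hB hBO).symm
      rcases mem_orbit_cases h22 hq A B C hBO with h | h
      · exact hAC (huniq A C hA hC h).symm
      · exact hBC (huniq B C hB hC h).symm
    have h2 : Fx.card = 2 := by
      unfold Nat.ModEq at hFxmod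
      omega
    obtain ⟨A, B, hAB, hFAB⟩ := Finset.card_eq_two.mp h2
    have hA : (y : T) • A = A := (Finset.mem_filter.mp (show A ∈ Fx by rw [hFAB]; simp)).2
    have hB : (y : T) • B = B := (Finset.mem_filter.mp (show B ∈ Fx by rw [hFAB]; simp)).2
    set O := (orbit ↥(A : Subgroup T) B).toFinite.toFinset with hO
    have hmemO : ∀ R, R ∈ O ↔ R ∈ orbit ↥(A : Subgroup T) B := fun R => by simp [hO]
    have hinv' : ∀ z : T, z • A = A → z • B = B → ∀ R ∈ O, z • R ∈ O := by
      intro z hzA hzB R hR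
      rw [hmemO] at hR ⊢
      obtain ⟨g, rfl⟩ := hR
      refine ⟨⟨z * g * z⁻¹,
        (Subgroup.mem_normalizer_iff.mp (Sylow.smul_eq_iff_mem_normalizer.mp hzA) g).mp g.2⟩, ?_⟩
      change (z * g * z⁻¹) • B = z • ((g : T) • B)
      rw [mul_smul, mul_smul, inv_smul_eq_iff.mpr hzB.symm]
    have hmod := card_fixed_modEq hy5 O fun R => ⟨hinv' _ hA hB R, fun h => by
      simpa using hinv' (y : T)⁻¹ (inv_smul_eq_iff.mpr hA.symm) (inv_smul_eq_iff.mpr hB.symm) _ h⟩
    have hle1 : (O.filter fun R => (y : T) • R = R).card ≤ 1 := by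
      refine Finset.card_le_one.mpr fun R hR S hS => ?_
      have key : ∀ U ∈ O.filter (fun R => (y : T) • R = R), U = B := by
        intro U hU
        obtain ⟨hUO, hUf⟩ := Finset.mem_filter.mp hU
        have hU' : U ∈ Fx := by simp [hFx, hUf]
        rw [hFAB, Finset.mem_insert, Finset.mem_singleton] at hU'
        exact hU'.resolve_left fun e =>
          (card_orbit_sylow h22 hAB.symm).2 (e ▸ (hmemO U).mp hUO)
      rw [key R hR, key S hS]
    have hOcard : O.card = Nat.card (orbit ↥(A : Subgroup T) B) := by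
      rw [Nat.card_coe_set_eq, Set.ncard_eq_toFinset_card _ (Set.toFinite _)]
    unfold Nat.ModEq at hmod
    rcases (card_orbit_sylow h22 hAB.symm).1 with h | h <;> rw [hOcard, h] at hmod <;> omega
  have h2 : (Z.subgroupOf N).index = 2 := by
    have hle := Nat.le_of_dvd (by norm_num) hidx
    interval_cases hh : (Z.subgroupOf N).index <;> omega
  have hN22 : Nat.card N = 22 := by rw [hcard, h2]
  refine ⟨hN22, fun P => ?_⟩
  have hmod := card_sylow_modEq_one 11 T
  have hN0 := Subgroup.card_mul_index N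
  have hM0 := Subgroup.card_mul_index (Subgroup.normalizer ((P : Subgroup T) : Set T))
  have hPi : (Subgroup.normalizer ((P : Subgroup T) : Set T)).index = 22 := by
    rw [← h22, P.card_eq_index_normalizer]
    rfl
  rw [hN22] at hN0
  rw [hPi] at hM0
  have : N.index = Nat.card (Subgroup.normalizer ((P : Subgroup T) : Set T)) := by omega
  rw [← this, ← hn11]
  exact hmod

theorem exists_inverting :
    ∃ t : T, t * q * t⁻¹ = q⁻¹ ∧ t ∉ Subgroup.zpowers q := by
  have : Fact (Nat.Prime 2) := ⟨by norm_num⟩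
  obtain ⟨hN, -⟩ := normalizer_facts h22 hq
  obtain ⟨t, ht⟩ := exists_prime_orderOf_dvd_card'
    (G := Subgroup.normalizer ((Subgroup.zpowers q : Subgroup T) : Set T)) 2 (hN ▸ by norm_num)
  have htT : orderOf (t : T) = 2 := by rw [Subgroup.orderOf_coe, ht]
  have htZ : (t : T) ∉ Subgroup.zpowers q := by
    intro h
    have := Subgroup.orderOf_dvd_natCard _ h
    rw [htT, Nat.card_zpowers, hq] at this
    norm_num at this
  refine ⟨t, ?_, htZ⟩
  have htt : (t : T) * t = 1 := by rw [← pow_two, ← htT, pow_orderOf_eq_one]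
  have hti : (t : T)⁻¹ = t := inv_eq_of_mul_eq_one_right htt
  set u := (t : T) * q * (t : T)⁻¹ with hu
  have huZ : u ∈ Subgroup.zpowers q :=
    (Subgroup.mem_normalizer_iff.mp t.2 q).mp (Subgroup.mem_zpowers q)
  obtain ⟨i, hi⟩ := Subgroup.mem_zpowers_iff.mp huZ
  have huq : Commute u q := hi ▸ (Commute.refl q).zpow_left i
  have htu : (t : T) * (u * q) * (t : T)⁻¹ = u * q := by
    rw [show (t : T) * (u * q) * (t : T)⁻¹ = ((t : T) * u * (t : T)⁻¹) * ((t : T) * q * (t : T)⁻¹) by group,
      ← hu, huq.eq]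
    congr 1
    rw [hu, hti, show (t : T) * ((t : T) * q * t) * t = ((t : T) * t) * q * (t * t) by group, htt]
    group
  by_contra hne
  have h1 : u * q ≠ 1 := fun h => hne (eq_inv_of_mul_eq_one_left h)
  have hdvd : orderOf (u * q) ∣ 11 := by
    have := Subgroup.orderOf_dvd_natCard _ (mul_mem huZ (Subgroup.mem_zpowers q))
    rwa [Nat.card_zpowers, hq] at this
  have h11 : orderOf (u * q) = 11 :=
    ((Nat.dvd_prime (by norm_num)).mp hdvd).resolve_left fun e => h1 (orderOf_eq_one_iff.mp e)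
  have := mem_zpowers_of_commute h22 h11 (mul_inv_eq_iff_eq_mul.mp htu : Commute (t : T) (u * q))
  exact htZ ((Subgroup.zpowers_le.mpr (mul_mem huZ (Subgroup.mem_zpowers q))) this)

end CfsgLib.TwentyTwo
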